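import Cfsg.Agent.Lib.Helper5.F4W.BNa
import Mathlib

/-!
# The (B, N)-pair of the large Ree group (helper5)
-/

set_option autoImplicit false
set_option maxRecDepth 100000

namespace Cfsg.Agent.Lib.Helper5.F4W

open Cfsg.Lie Cfsg.Agent.Lib.Helper5.Chev Cfsg.Agent.Lib.Helper5.GA Cfsg.Agent.Lib.Helper5.Tw
open Cfsg.Agent.Lib.Helper8.F4T

theorem act_sqA : ∀ k < 4, WF.act (wA ++ wA) (WF.p k) = WF.act [] (WF.p k) := by decide

theorem act_sqB : ∀ k < 4, WF.act (wB ++ wB) (WF.p k) = WF.act [] (WF.p k) := by decide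

theorem act_neAB : WF.act wA (WF.p 0) ≠ WF.act wB (WF.p 0) := by decide

theorem negA : wW BsF4.Bs wA 33 < 24 ∧ wW BsF4.Bs wA 24 < 24 := by decide

theorem negB : wW BsF4.Bs wB 27 < 24 ∧ wW BsF4.Bs wB 25 < 24 ∧ wW BsF4.Bs wB 28 < 24 ∧
    wW BsF4.Bs wB 30 < 24 := by decide

section

variable {K : Type*} [Field K]

/-- words in negative roots lie in `V` -/
theorem wordU_mem_neg (w : List (ℕ × K)) (hw : ∀ p ∈ w, p.1 < 24) :
    (hadd4 K).wordU w ∈ chevF4.negUnipotent K := by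
  induction w with
  | nil =>
    rw [wordU_nil]
    exact Subgroup.one_mem _
  | cons p w ih =>
    rw [wordU_cons]
    have hp := hw p List.mem_cons_self
    have hp' : p.1 < chevF4.nroots := lt_trans hp (by decide)
    exact Subgroup.mul_mem _
      (Subgroup.subset_closure ⟨p.1, p.2, (neg_iff24 _ hp').2 hp, rfl⟩)
      (ih fun q hq => hw q (List.mem_cons_of_mem _ hq))

/-- the squares of the two generators lie in `H` -/
theorem nW_sq_diag (J : List ℕ) (hJ : J = wA ∨ J = wB) :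
    nW K J * nW K J ∈ chevF4.diagonalSubgroup K := by
  have hJw : WF.IsWord J := by
    rcases hJ with rfl | rfl
    exacts [isWord_wA, isWord_wB]
  have hJJ : WF.IsWord (J ++ J) := hJw.append WF hJw
  have hact : ∀ k < 4, WF.act (J ++ J) (WF.p k) = WF.act [] (WF.p k) := by
    rcases hJ with rfl | rfl
    exacts [act_sqA, act_sqB]
  have h2 : (nW K (J ++ J))⁻¹ * nW K [] ∈ chevF4.diagonalSubgroup K :=
    coset_of_act_eq (J ++ J) [] hJJ isWord_nil (act_eq_of_simple hJJ isWord_nil hact)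
  rw [nW_nil, mul_one, nW_append] at h2
  have := Subgroup.inv_mem _ h2
  rwa [inv_inv] at this

/-- the two generators lie in different cosets of `H` -/
theorem nW_AB_not_diag : (nW K wA)⁻¹ * nW K wB ∉ chevF4.diagonalSubgroup K := by
  intro h
  exact act_neAB (act_eq_of_coset wA wB isWord_wA isWord_wB h _ (p_lt4 0 (by norm_num)))

end

section

variable {K : Type*} [Field K] [Fintype K] [CharP K 2] {m : ℕ}

/-- `B¹` -/
noncomputable abbrev B1 (K : Type*) [Field K] (m : ℕ) : Subgroup ↥(twistedF4 K (2 ^ m)) :=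
  (chevF4.borelSubgroup K ⊓ twistedF4 K (2 ^ m)).subgroupOf (twistedF4 K (2 ^ m))

/-- `N¹` -/
noncomputable abbrev N1 (K : Type*) [Field K] (m : ℕ) : Subgroup ↥(twistedF4 K (2 ^ m)) :=
  (chevF4.monomialSubgroup K ⊓ twistedF4 K (2 ^ m)).subgroupOf (twistedF4 K (2 ^ m))

omit [Fintype K] [CharP K 2] in
theorem mem_B1 (x : ↥(twistedF4 K (2 ^ m))) :
    x ∈ B1 K m ↔ (x : GL chevF4.Idx K) ∈ chevF4.borelSubgroup K := by
  show (x : GL chevF4.Idx K) ∈ chevF4.borelSubgroup K ⊓ twistedF4 K (2 ^ m) ↔ _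
  exact ⟨fun h => h.1, fun h => ⟨h, x.2⟩⟩

omit [Fintype K] [CharP K 2] in
theorem mem_N1 (x : ↥(twistedF4 K (2 ^ m))) :
    x ∈ N1 K m ↔ (x : GL chevF4.Idx K) ∈ chevF4.monomialSubgroup K := by
  show (x : GL chevF4.Idx K) ∈ chevF4.monomialSubgroup K ⊓ twistedF4 K (2 ^ m) ↔ _
  exact ⟨fun h => h.1, fun h => ⟨h, x.2⟩⟩

/-- the first generator of the Weyl group, in the twisted group -/
noncomputable def sA (K : Type*) [Field K] [CharP K 2] (m : ℕ) : ↥(twistedF4 K (2 ^ m)) :=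
  ⟨nW K wA, nJ1_mem_twisted (2 ^ m)⟩

/-- the second generator of the Weyl group, in the twisted group -/
noncomputable def sB (K : Type*) [Field K] [CharP K 2] (m : ℕ) : ↥(twistedF4 K (2 ^ m)) :=
  ⟨nW K wB, nJ2_mem_twisted (2 ^ m) (by positivity)⟩

omit [Fintype K] in
theorem sA_val : ((sA K m : ↥(twistedF4 K (2 ^ m))) : GL chevF4.Idx K) = nW K wA := rfl

omit [Fintype K] in
theorem sB_val : ((sB K m : ↥(twistedF4 K (2 ^ m))) : GL chevF4.Idx K) = nW K wB := rfl

omit [Fintype K] in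
/-- the representatives of the sixteen elements are products of the two generators -/
theorem wd_mem_closure (g : DihedralGroup 8) (hg : nW K (wd g) ∈ twistedF4 K (2 ^ m)) :
    (⟨nW K (wd g), hg⟩ : ↥(twistedF4 K (2 ^ m)))
      ∈ Subgroup.closure ({sA K m, sB K m} : Set ↥(twistedF4 K (2 ^ m))) := by
  have hA : sA K m ∈ Subgroup.closure ({sA K m, sB K m} : Set ↥(twistedF4 K (2 ^ m))) :=
    Subgroup.subset_closure (Set.mem_insert _ _)
  have hB : sB K m ∈ Subgroup.closure ({sA K m, sB K m} : Set ↥(twistedF4 K (2 ^ m))) :=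
    Subgroup.subset_closure (Set.mem_insert_of_mem _ rfl)
  cases g with
  | r i =>
    have e : (⟨nW K (wd (DihedralGroup.r i)), hg⟩ : ↥(twistedF4 K (2 ^ m)))
        = (sA K m * sB K m) ^ i.val := by
      apply Subtype.ext
      rw [SubgroupClass.coe_pow, Subgroup.coe_mul, sA_val, sB_val]
      show nW K (rep i.val (wA ++ wB)) = (nW K wA * nW K wB) ^ i.val
      rw [nW_rep, nW_append]
    rw [e]
    exact Subgroup.pow_mem _ (Subgroup.mul_mem _ hA hB) _
  | sr i =>
    have e : (⟨nW K (wd (DihedralGroup.sr i)), hg⟩ : ↥(twistedF4 K (2 ^ m)))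
        = sA K m * (sA K m * sB K m) ^ i.val := by
      apply Subtype.ext
      rw [Subgroup.coe_mul, SubgroupClass.coe_pow, Subgroup.coe_mul, sA_val, sB_val]
      show nW K (wA ++ rep i.val (wA ++ wB)) = nW K wA * (nW K wA * nW K wB) ^ i.val
      rw [nW_append, nW_rep, nW_append]
    rw [e]
    exact Subgroup.mul_mem _ hA (Subgroup.pow_mem _ (Subgroup.mul_mem _ hA hB) _)

/-- the Bruhat decomposition in the twisted group -/
theorem bruhat_twisted (hK : Fintype.card K = 2 ^ (2 * m + 1)) (x : ↥(twistedF4 K (2 ^ m))) :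
    ∃ b1 ∈ B1 K m, ∃ n ∈ N1 K m, ∃ b2 ∈ B1 K m, x = b1 * n * b2 := by
  have hUB : chevF4.posUnipotent K ≤ chevF4.borelSubgroup K := le_sup_left
  have hG : ∀ y, y ∈ fixR hK → y ∈ twistedF4 K (2 ^ m) := fun y hy => by
    rw [twisted_eq_fixR hK]
    exact hy
  obtain ⟨u1, hu1, n, hn, u2, hu2, e, f1, fn, f2⟩ :=
    bruhat_fixR hK (x : GL chevF4.Idx K) (twisted_le_fixR hK x.2)
  refine ⟨⟨u1, hG _ f1⟩, (mem_B1 _).2 (hUB hu1), ⟨n, hG _ fn⟩, (mem_N1 _).2 hn,
    ⟨u2, hG _ f2⟩, (mem_B1 _).2 (hUB (uneg_le_pos chevF4 _ hu2)), ?_⟩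
  apply Subtype.ext
  exact e

/-- a nontrivial element of `U¹` mapped into `V` by a generator of the Weyl group -/
theorem exists_neg_conj (J : List ℕ) (hJ : J = wA ∨ J = wB) :
    ∃ u ∈ chevF4.posUnipotent K ⊓ twistedF4 K (2 ^ m), u ≠ 1 ∧
      nW K J * u * (nW K J)⁻¹ ∈ chevF4.negUnipotent K := by
  rcases hJ with rfl | rfl
  · refine ⟨(hadd4 K).wordU ((P1 K).rw m 1), ⟨wordU_mem_pos _ (P1_bd 1), P1rw_mem 1⟩, ?_, ?_⟩
    · intro h
      rw [P1_rw', wordU_two] at h
      have := word2_inj (ph1 K m 1) 1 0 0 (by rw [h, xU_zero4, xU_zero4, mul_one])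
      exact one_ne_zero this
    · have hc := conj_wordU2 (K := K) wA isWord_wA ((P1 K).rw m 1)
        (fun p hp => (P1_bd 1 p hp).1)
      have hc' : nW K wA * (hadd4 K).wordU ((P1 K).rw m 1) * (nW K wA)⁻¹
          = (hadd4 K).wordU (Helper8.F4T.mapW wA ((P1 K).rw m 1)) := hc
      rw [hc']
      apply wordU_mem_neg
      intro p hp
      rw [P1_rw'] at hp
      change p ∈ [(wW BsF4.Bs wA 33, ph1 K m 1), (wW BsF4.Bs wA 24, (1 : K))] at hp
      simp only [List.mem_cons, List.not_mem_nil, or_false] at hp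
      rcases hp with rfl | rfl
      · exact negA.1
      · exact negA.2
  · refine ⟨(hadd4 K).wordU ((Q4 K).rw m 1 0), ⟨wordU_mem_pos _ (Q4_bd 1 0), Q4rw_mem 1 0⟩,
      ?_, ?_⟩
    · intro h
      rw [Q4_rw', wordU_four] at h
      have := word4_inj (ph1 K m 1) 1 (ph1 K m 1 * 1 + 0) (ph2 K m 0) 0 0 0 0
        (by rw [h, xU_zero4, xU_zero4, xU_zero4, xU_zero4, mul_one, mul_one, mul_one])
      exact one_ne_zero this
    · have hc := conj_wordU2 (K := K) wB isWord_wB ((Q4 K).rw m 1 0)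
        (fun p hp => (Q4_bd 1 0 p hp).1)
      have hc' : nW K wB * (hadd4 K).wordU ((Q4 K).rw m 1 0) * (nW K wB)⁻¹
          = (hadd4 K).wordU (Helper8.F4T.mapW wB ((Q4 K).rw m 1 0)) := hc
      rw [hc']
      apply wordU_mem_neg
      intro p hp
      rw [Q4_rw'] at hp
      change p ∈ [(wW BsF4.Bs wB 27, ph1 K m 1), (wW BsF4.Bs wB 25, (1 : K)),
        (wW BsF4.Bs wB 28, ph1 K m 1 * 1 + 0), (wW BsF4.Bs wB 30, ph2 K m 0)] at hp
      simp only [List.mem_cons, List.not_mem_nil, or_false] at hp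
      rcases hp with rfl | rfl | rfl | rfl
      · exact negB.1
      · exact negB.2.1
      · exact negB.2.2.1
      · exact negB.2.2.2

/-- the (B, N)-pair of the twisted group -/
theorem bnPair (hK : Fintype.card K = 2 ^ (2 * m + 1)) :
    ∃ P : Cfsg.BNPair ↥(twistedF4 K (2 ^ m)),
      P.B = B1 K m ∧ P.N = N1 K m ∧ P.S = {sA K m, sB K m} := by
  have hHB : chevF4.diagonalSubgroup K ≤ chevF4.borelSubgroup K := le_sup_right
  have hHN : chevF4.diagonalSubgroup K ≤ chevF4.monomialSubgroup K := le_sup_left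
  have hBN : chevF4.borelSubgroup K ⊓ chevF4.monomialSubgroup K = chevF4.diagonalSubgroup K :=
    (borel_inf_monomial_all chevF4 hD4).2
  have hG : ∀ y, y ∈ fixR hK → y ∈ twistedF4 K (2 ^ m) := fun y hy => by
    rw [twisted_eq_fixR hK]
    exact hy
  have hSJ : ∀ s ∈ ({sA K m, sB K m} : Set ↥(twistedF4 K (2 ^ m))),
      ∃ J, (J = wA ∨ J = wB) ∧ (s : GL chevF4.Idx K) = nW K J := by
    intro s hs
    rcases hs with rfl | hs
    · exact ⟨wA, Or.inl rfl, rfl⟩
    · rw [Set.mem_singleton_iff] at hs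
      rw [hs]
      exact ⟨wB, Or.inr rfl, rfl⟩
  refine ⟨{ B := B1 K m
            N := N1 K m
            S := {sA K m, sB K m}
            sup_eq_top := ?_
            conj_mem := ?_
            subset := ?_
            sq_mem := ?_
            inj := ?_
            closure_sup := ?_
            mul_mem_union := ?_
            conj_ne := ?_ }, rfl, rfl, rfl⟩
  · -- sup_eq_top
    rw [eq_top_iff]
    intro x _
    obtain ⟨b1, hb1, n, hn, b2, hb2, rfl⟩ := bruhat_twisted hK x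
    exact Subgroup.mul_mem _ (Subgroup.mul_mem _ (Subgroup.mem_sup_left hb1)
      (Subgroup.mem_sup_right hn)) (Subgroup.mem_sup_left hb2)
  · -- conj_mem
    rintro n hn t ⟨ht1, ht2⟩
    have ht1' : t ∈ B1 K m := ht1
    have ht2' : t ∈ N1 K m := ht2
    rw [mem_B1] at ht1' ⊢
    rw [mem_N1] at ht2' hn
    have htH : (t : GL chevF4.Idx K) ∈ chevF4.diagonalSubgroup K := by
      rw [← hBN]
      exact ⟨ht1', ht2'⟩
    exact hHB (mono_normalizes _ _ hn htH).1
  · -- subset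
    intro s hs
    obtain ⟨J, -, e⟩ := hSJ s hs
    rw [SetLike.mem_coe, mem_N1, e]
    exact nW_mem_mono J
  · -- sq_mem
    intro s hs
    obtain ⟨J, hJ, e⟩ := hSJ s hs
    rw [mem_B1, Subgroup.coe_mul, e]
    exact hHB (nW_sq_diag J hJ)
  · -- inj
    intro s hs s' hs' h
    rw [mem_B1] at h
    have hmem : ((s⁻¹ * s' : ↥(twistedF4 K (2 ^ m))) : GL chevF4.Idx K)
        ∈ chevF4.diagonalSubgroup K := by
      rw [← hBN]
      refine ⟨h, ?_⟩
      obtain ⟨J, -, e⟩ := hSJ s hs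
      obtain ⟨J', -, e'⟩ := hSJ s' hs'
      rw [Subgroup.coe_mul, Subgroup.coe_inv, e, e']
      exact Subgroup.mul_mem _ (Subgroup.inv_mem _ (nW_mem_mono J)) (nW_mem_mono J')
    rcases hs with rfl | hs
    · rcases hs' with rfl | hs'
      · rfl
      · rw [Set.mem_singleton_iff] at hs'
        rw [hs'] at hmem
        exact absurd hmem nW_AB_not_diag
    · rw [Set.mem_singleton_iff] at hs
      rcases hs' with rfl | hs'
      · rw [hs] at hmem
        have h2 := Subgroup.inv_mem _ hmem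
        have e2 : (((sB K m)⁻¹ * sA K m : ↥(twistedF4 K (2 ^ m))) : GL chevF4.Idx K)⁻¹
            = (nW K wA)⁻¹ * nW K wB := by
          rw [Subgroup.coe_mul, Subgroup.coe_inv, sA_val, sB_val]
          group
        rw [e2] at h2
        exact absurd h2 nW_AB_not_diag
      · rw [Set.mem_singleton_iff] at hs'
        rw [hs, hs']
  · -- closure_sup
    apply le_antisymm
    · apply sup_le
      · rw [Subgroup.closure_le]
        intro s hs
        obtain ⟨J, -, e⟩ := hSJ s hs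
        rw [SetLike.mem_coe, mem_N1, e]
        exact nW_mem_mono J
      · exact inf_le_right
    · intro n hn
      have hn' := (mem_N1 n).1 hn
      obtain ⟨g, h, hh, e⟩ := mono_fix_coset hK _ hn' (twisted_le_fixR hK n.2)
      have hw : nW K (wd g) ∈ twistedF4 K (2 ^ m) := nW_wd_mem_twisted g
      have hhG : h ∈ twistedF4 K (2 ^ m) := by
        have e1 : h = (nW K (wd g))⁻¹ * (n : GL chevF4.Idx K) := by
          rw [e]
          group
        rw [e1]
        exact Subgroup.mul_mem _ (Subgroup.inv_mem _ hw) n.2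
      have e2 : n = (⟨nW K (wd g), hw⟩ : ↥(twistedF4 K (2 ^ m))) * ⟨h, hhG⟩ := by
        apply Subtype.ext
        exact e
      rw [e2]
      apply Subgroup.mul_mem
      · exact Subgroup.mem_sup_left (wd_mem_closure g hw)
      · apply Subgroup.mem_sup_right
        exact ⟨(mem_B1 _).2 (hHB hh), (mem_N1 _).2 (hHN hh)⟩
  · -- mul_mem_union
    intro s hs n hn b hb
    obtain ⟨J, hJ, e⟩ := hSJ s hs
    have hn' := (mem_N1 n).1 hn
    have hb' := (mem_B1 b).1 hb
    rcases bn_axiom_fix hK J hJ _ hn' (twisted_le_fixR hK n.2) _ hb' (twisted_le_fixR hK b.2)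
      with ⟨b1, hb1, b2, hb2, e1⟩ | ⟨b1, hb1, b2, hb2, e1⟩
    · left
      rw [DoubleCoset.mem_doubleCoset]
      refine ⟨⟨b1, hG _ hb1.2⟩, (mem_B1 _).2 hb1.1, ⟨b2, hG _ hb2.2⟩, (mem_B1 _).2 hb2.1, ?_⟩
      apply Subtype.ext
      show (s : GL chevF4.Idx K) * b * n = b1 * ((s : GL chevF4.Idx K) * n) * b2
      rw [e]
      exact e1
    · right
      rw [DoubleCoset.mem_doubleCoset]
      refine ⟨⟨b1, hG _ hb1.2⟩, (mem_B1 _).2 hb1.1, ⟨b2, hG _ hb2.2⟩, (mem_B1 _).2 hb2.1, ?_⟩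
      apply Subtype.ext
      show (s : GL chevF4.Idx K) * b * n = b1 * n * b2
      rw [e]
      exact e1
  · -- conj_ne
    intro s hs heq
    obtain ⟨J, hJ, e⟩ := hSJ s hs
    obtain ⟨u, hu, hu1, hneg⟩ := exists_neg_conj (K := K) (m := m) J hJ
    have huB : (⟨u, hu.2⟩ : ↥(twistedF4 K (2 ^ m))) ∈ B1 K m :=
      (mem_B1 _).2 (Subgroup.mem_sup_left hu.1)
    have hmem : s * ⟨u, hu.2⟩ * s ∈ ((B1 K m : Subgroup ↥(twistedF4 K (2 ^ m))) :
        Set ↥(twistedF4 K (2 ^ m))) := by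
      rw [← heq]
      exact ⟨⟨u, hu.2⟩, huB, rfl⟩
    rw [SetLike.mem_coe, mem_B1] at hmem
    have hmem' : nW K J * u * nW K J ∈ chevF4.borelSubgroup K := by
      rw [← e]
      exact hmem
    apply hu1
    have h1 : nW K J * u * (nW K J)⁻¹ ∈ chevF4.borelSubgroup K ⊓ chevF4.negUnipotent K := by
      refine ⟨?_, hneg⟩
      have e3 : nW K J * u * (nW K J)⁻¹ = (nW K J * u * nW K J) * (nW K J * nW K J)⁻¹ := by
        group
      rw [e3]
      exact Subgroup.mul_mem _ hmem' (Subgroup.inv_mem _ (hHB (nW_sq_diag J hJ)))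
    rw [(borel_inf_neg_all chevF4 hD4).1, Subgroup.mem_bot] at h1
    have e4 : u = (nW K J)⁻¹ * (nW K J * u * (nW K J)⁻¹) * nW K J := by group
    rw [e4, h1]
    group

end

end Cfsg.Agent.Lib.Helper5.F4W
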