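import Cfsg.Agent.Lib.Helper5.F4W.Core
import Cfsg.Agent.Lib.Helper8.F4T.HTor
import Cfsg.Agent.Lib.Helper5.Chev.BNAxiom
import Mathlib

/-!
# The double coset axiom for the fixed points of the large Ree group (helper5)

The twisted group is the group of the fixed points of `σ`; the axiom `s B n ⊆ B s n B ∪ B n B`
is deduced from the axiom of the ambient group, applied along the word of `s`.
-/

set_option autoImplicit false
set_option maxRecDepth 100000

namespace Cfsg.Agent.Lib.Helper5.F4W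

open Cfsg.Lie Cfsg.Agent.Lib.Helper5.Chev Cfsg.Agent.Lib.Helper5.GA Cfsg.Agent.Lib.Helper5.Tw
open Cfsg.Agent.Lib.Helper8.F4T

/-- a sublist of the first orbit word acting as a fixed element acts trivially or as the word -/
theorem sub_fixA : ∀ L' ∈ wA.sublists, ∀ g : DihedralGroup 8,
    (∀ k < 4, WF.act L' (WF.p k) = WF.act (wd g) (WF.p k)) →
    (∀ k < 4, WF.act L' (WF.p k) = WF.act [] (WF.p k)) ∨
      (∀ k < 4, WF.act L' (WF.p k) = WF.act wA (WF.p k)) := by decide +kernel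

/-- a sublist of the second orbit word acting as a fixed element acts trivially or as the word -/
theorem sub_fixB : ∀ L' ∈ wB.sublists, ∀ g : DihedralGroup 8,
    (∀ k < 4, WF.act L' (WF.p k) = WF.act (wd g) (WF.p k)) →
    (∀ k < 4, WF.act L' (WF.p k) = WF.act [] (WF.p k)) ∨
      (∀ k < 4, WF.act L' (WF.p k) = WF.act wB (WF.p k)) := by decide +kernel

theorem p_lt4 : ∀ k < 4, WF.p k < WF.n := by decide

theorem isWord_nil : WF.IsWord [] := by
  show ∀ x ∈ ([] : List ℕ), x < WF.l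
  simp

section

variable {K : Type*} [Field K]

theorem nW_cons (i : ℕ) (L : List ℕ) :
    nW K (i :: L) = nUi DataF4.agrees (hadd4 K) i * nW K L := by
  unfold nW nWordU
  rw [List.map_cons, List.prod_cons]

/-- the double coset axiom of the ambient group, along a word -/
theorem bn_iter (L : List ℕ) (hL : ∀ i ∈ L, i < chevF4.rank) (n : GL chevF4.Idx K)
    (hn : n ∈ chevF4.monomialSubgroup K) (b : GL chevF4.Idx K)
    (hb : b ∈ chevF4.borelSubgroup K) :
    ∃ L' : List ℕ, L'.Sublist L ∧ ∃ b1 ∈ chevF4.borelSubgroup K,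
      ∃ b2 ∈ chevF4.borelSubgroup K, nW K L * b * n = b1 * (nW K L' * n) * b2 := by
  induction L with
  | nil =>
    refine ⟨[], List.Sublist.slnil, b, hb, 1, Subgroup.one_mem _, ?_⟩
    rw [nW_nil]
    group
  | cons i L ih =>
    obtain ⟨L', hsub, b1, hb1, b2, hb2, e⟩ := ih (fun j hj => hL j (List.mem_cons_of_mem _ hj))
    have hi := hL i List.mem_cons_self
    have hn' : nW K L' * n ∈ chevF4.monomialSubgroup K :=
      Subgroup.mul_mem _ (nW_mem_mono L') hn
    have e0 : nW K (i :: L) * b * n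
        = nUi DataF4.agrees (hadd4 K) i * b1 * (nW K L' * n) * b2 := by
      have : nW K (i :: L) * b * n = nUi DataF4.agrees (hadd4 K) i * (nW K L * b * n) := by
        rw [nW_cons]
        group
      rw [this, e]
      group
    rcases bn_axiom_all chevF4 hD4 i hi (nUi DataF4.agrees (hadd4 K) i)
      (nUi_val DataF4.agrees (hadd4 K) hi) (nW K L' * n) hn' b1 hb1 with
      ⟨c1, hc1, c2, hc2, e1⟩ | ⟨c1, hc1, c2, hc2, e1⟩
    · refine ⟨i :: L', hsub.cons_cons i, c1, hc1, c2 * b2, Subgroup.mul_mem _ hc2 hb2, ?_⟩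
      rw [e0, e1, nW_cons]
      group
    · refine ⟨L', hsub.cons i, c1, hc1, c2 * b2, Subgroup.mul_mem _ hc2 hb2, ?_⟩
      rw [e0, e1]
      group

variable [Fintype K] [CharP K 2] {m : ℕ}

/-- the twisted group is the group of the fixed points -/
theorem twisted_eq_fixR (hK : Fintype.card K = 2 ^ (2 * m + 1)) :
    twistedF4 K (2 ^ m) = fixR hK := by
  apply le_antisymm (twisted_le_fixR hK)
  intro g hg
  obtain ⟨u1, hu1, n, hn, u, hu, e, f1, fn, f2⟩ := bruhat_fixR hK g hg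
  obtain ⟨g0, h, hh, en⟩ := mono_fix_coset hK n hn fn
  have hw : nW K (wd g0) ∈ twistedF4 K (2 ^ m) := nW_wd_mem_twisted g0
  have hhf : h ∈ fixR hK := by
    have : h = (nW K (wd g0))⁻¹ * n := by
      rw [en]
      group
    rw [this]
    exact Subgroup.mul_mem _ (Subgroup.inv_mem _ (twisted_le_fixR hK hw)) fn
  have hnG : n ∈ twistedF4 K (2 ^ m) := by
    rw [en]
    exact Subgroup.mul_mem _ hw (diag_fixed_le_twisted hK ⟨hh, hhf⟩)
  rw [e]
  exact Subgroup.mul_mem _ (Subgroup.mul_mem _ (pos_fixed_le_twisted hK ⟨hu1, f1⟩) hnG)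
    (pos_fixed_le_twisted hK ⟨uneg_le_pos chevF4 _ hu, f2⟩)

/-- the double coset axiom for the fixed points -/
theorem bn_axiom_fix (hK : Fintype.card K = 2 ^ (2 * m + 1)) (J : List ℕ)
    (hJ : J = wA ∨ J = wB) (n : GL chevF4.Idx K) (hn : n ∈ chevF4.monomialSubgroup K)
    (hnf : n ∈ fixR hK) (b : GL chevF4.Idx K) (hb : b ∈ chevF4.borelSubgroup K)
    (hbf : b ∈ fixR hK) :
    (∃ b1 ∈ chevF4.borelSubgroup K ⊓ fixR hK, ∃ b2 ∈ chevF4.borelSubgroup K ⊓ fixR hK,
      nW K J * b * n = b1 * (nW K J * n) * b2) ∨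
    (∃ b1 ∈ chevF4.borelSubgroup K ⊓ fixR hK, ∃ b2 ∈ chevF4.borelSubgroup K ⊓ fixR hK,
      nW K J * b * n = b1 * n * b2) := by
  have hUB : chevF4.posUnipotent K ≤ chevF4.borelSubgroup K := le_sup_left
  have hHB : chevF4.diagonalSubgroup K ≤ chevF4.borelSubgroup K := le_sup_right
  have hJw : WF.IsWord J := by
    rcases hJ with rfl | rfl
    exacts [isWord_wA, isWord_wB]
  have hJl : ∀ i ∈ J, i < chevF4.rank := hJw
  have hJf : nW K J ∈ fixR hK := by
    apply twisted_le_fixR hK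
    rcases hJ with rfl | rfl
    · exact nJ1_mem_twisted (2 ^ m)
    · exact nJ2_mem_twisted (2 ^ m) (by positivity)
  have hgf : nW K J * b * n ∈ fixR hK := Subgroup.mul_mem _ (Subgroup.mul_mem _ hJf hbf) hnf
  obtain ⟨u1, hu1, n', hn', u2, hu2, e, f1, fn', f2⟩ := bruhat_fixR hK _ hgf
  obtain ⟨L', hsub, b1, hb1, b2, hb2, e'⟩ := bn_iter J hJl n hn b hb
  have hL'w : WF.IsWord L' := fun i hi => hJw i (hsub.subset hi)
  have hu2U : u2 ∈ chevF4.posUnipotent K := uneg_le_pos chevF4 _ hu2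
  -- `n'` lies in the double coset of `nW L' * n`
  have hdc : n' ∈ dc (chevF4.borelSubgroup K) (nW K L' * n) := by
    rw [mem_dc]
    refine ⟨u1⁻¹ * b1, Subgroup.mul_mem _ (Subgroup.inv_mem _ (hUB hu1)) hb1, b2 * u2⁻¹,
      Subgroup.mul_mem _ hb2 (Subgroup.inv_mem _ (hUB hu2U)), ?_⟩
    have : n' = u1⁻¹ * (nW K J * b * n) * u2⁻¹ := by
      rw [e]
      group
    rw [this, e']
    group
  have hk := monomial_dc chevF4 hD4 (nW K L' * n) n'
    (Subgroup.mul_mem _ (nW_mem_mono L') hn) hn' hdc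
  have hxN : n' * n⁻¹ ∈ chevF4.monomialSubgroup K :=
    Subgroup.mul_mem _ hn' (Subgroup.inv_mem _ hn)
  have hxf : n' * n⁻¹ ∈ fixR hK := Subgroup.mul_mem _ fn' (Subgroup.inv_mem _ hnf)
  obtain ⟨g0, h0, hh0, ex⟩ := mono_fix_coset hK _ hxN hxf
  have hc1 : (nW K L')⁻¹ * nW K (wd g0) ∈ chevF4.diagonalSubgroup K := by
    have h1 := (mono_normalizes n _ hn hk).1
    have e2 : (nW K L')⁻¹ * nW K (wd g0)
        = (n * ((nW K L' * n)⁻¹ * n') * n⁻¹) * h0⁻¹ := by
      have e3 : nW K (wd g0) = n' * n⁻¹ * h0⁻¹ := by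
        rw [ex]
        group
      rw [e3]
      group
    rw [e2]
    exact Subgroup.mul_mem _ h1 (Subgroup.inv_mem _ hh0)
  have hact := act_eq_of_coset L' (wd g0) hL'w (isWord_wd g0) hc1
  have hact4 : ∀ k < 4, WF.act L' (WF.p k) = WF.act (wd g0) (WF.p k) :=
    fun k hk => hact _ (p_lt4 k hk)
  have hcases : (∀ k < 4, WF.act L' (WF.p k) = WF.act [] (WF.p k)) ∨
      (∀ k < 4, WF.act L' (WF.p k) = WF.act J (WF.p k)) := by
    rcases hJ with rfl | rfl
    · exact sub_fixA L' (List.mem_sublists.2 hsub) g0 hact4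
    · exact sub_fixB L' (List.mem_sublists.2 hsub) g0 hact4
  rcases hcases with hc | hc
  · right
    have h2 : (nW K L')⁻¹ * nW K [] ∈ chevF4.diagonalSubgroup K :=
      coset_of_act_eq L' [] hL'w isWord_nil (act_eq_of_simple hL'w isWord_nil hc)
    have h3 : nW K L' ∈ chevF4.diagonalSubgroup K := by
      rw [nW_nil, mul_one] at h2
      have := Subgroup.inv_mem _ h2
      rwa [inv_inv] at this
    have h4 : n⁻¹ * n' ∈ chevF4.diagonalSubgroup K := by
      have e4 : n⁻¹ * n' = (n⁻¹ * nW K L' * n) * ((nW K L' * n)⁻¹ * n') := by group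
      rw [e4]
      exact Subgroup.mul_mem _ (mono_normalizes n _ hn h3).2 hk
    refine ⟨u1, ⟨hUB hu1, f1⟩, (n⁻¹ * n') * u2,
      ⟨Subgroup.mul_mem _ (hHB h4) (hUB hu2U),
        Subgroup.mul_mem _ (Subgroup.mul_mem _ (Subgroup.inv_mem _ hnf) fn') f2⟩, ?_⟩
    rw [e]
    group
  · left
    have h2 : (nW K L')⁻¹ * nW K J ∈ chevF4.diagonalSubgroup K :=
      coset_of_act_eq L' J hL'w hJw (act_eq_of_simple hL'w hJw hc)
    have h4 : (nW K J * n)⁻¹ * n' ∈ chevF4.diagonalSubgroup K := by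
      have e4 : (nW K J * n)⁻¹ * n'
          = (n⁻¹ * ((nW K L')⁻¹ * nW K J)⁻¹ * n) * ((nW K L' * n)⁻¹ * n') := by group
      rw [e4]
      exact Subgroup.mul_mem _ (mono_normalizes n _ hn (Subgroup.inv_mem _ h2)).2 hk
    refine ⟨u1, ⟨hUB hu1, f1⟩, ((nW K J * n)⁻¹ * n') * u2,
      ⟨Subgroup.mul_mem _ (hHB h4) (hUB hu2U),
        Subgroup.mul_mem _ (Subgroup.mul_mem _ (Subgroup.inv_mem _
          (Subgroup.mul_mem _ hJf hnf)) fn') f2⟩, ?_⟩
    rw [e]
    group

end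

end Cfsg.Agent.Lib.Helper5.F4W
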