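import Cfsg.Agent.Lib.Helper5.F4W.N1
import Mathlib

/-!
# The core of the Borel subgroup of the large Ree group is trivial (helper5)
-/

set_option autoImplicit false
set_option maxRecDepth 100000

namespace Cfsg.Agent.Lib.Helper5.F4W

open Cfsg.Lie Cfsg.Agent.Lib.Helper5.Chev Cfsg.Agent.Lib.Helper5.GA Cfsg.Agent.Lib.Helper5.Tw
open Cfsg.Agent.Lib.Helper8.F4T

/-- the word of the longest element -/
def Lw0 : List ℕ := wd (DihedralGroup.r 4)

theorem Lw0_lt : ∀ i ∈ Lw0, i < chevF4.rank := wd_lt _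

theorem Lw0_neg : ∀ r < 48, 24 ≤ r → wW BsF4.Bs Lw0 r < 24 := by decide +kernel

section

variable {K : Type*} [Field K]

/-- the longest element maps `U` into `V` -/
theorem n0_conj_pos (u : GL chevF4.Idx K) (hu : u ∈ chevF4.posUnipotent K) :
    nW K Lw0 * u * (nW K Lw0)⁻¹ ∈ chevF4.negUnipotent K := by
  have hle : chevF4.posUnipotent K
      ≤ (chevF4.negUnipotent K).comap (MulAut.conj (nW K Lw0)).toMonoidHom := by
    unfold ChevalleyDatum.posUnipotent
    rw [Subgroup.closure_le]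
    rintro x ⟨r, t, hr, hx⟩
    have hx' : x = (hadd4 K).xU r t := Units.ext hx
    rw [SetLike.mem_coe, Subgroup.mem_comap, hx']
    show nW K Lw0 * (hadd4 K).xU r t * (nW K Lw0)⁻¹ ∈ _
    obtain ⟨t', e⟩ := conj_word_diag hD4 DataF4.agrees (hadd4 K) BsF4.Bs HsF4.reflBs' Lw0 Lw0_lt
      1 (Subgroup.one_mem _) r hr.1 t
    rw [mul_one] at e
    have e' : nW K Lw0 * (hadd4 K).xU r t * (nW K Lw0)⁻¹
        = (hadd4 K).xU (wW BsF4.Bs Lw0 r) t' := e
    rw [e']
    have hlt := wW_lt DataF4.agrees BsF4.Bs HsF4.reflBs' Lw0 Lw0_lt r hr.1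
    have h24 := Lw0_neg r hr.1 ((pos_iff24 r hr.1).1 hr)
    exact Subgroup.subset_closure ⟨_, t', (neg_iff24 _ hlt).2 h24, rfl⟩
  exact hle hu

/-- words in positive roots lie in `U` -/
theorem wordU_mem_pos (w : List (ℕ × K)) (hw : ∀ p ∈ w, p.1 < 48 ∧ 24 ≤ p.1) :
    (hadd4 K).wordU w ∈ chevF4.posUnipotent K := by
  induction w with
  | nil =>
    rw [wordU_nil]
    exact Subgroup.one_mem _
  | cons p w ih =>
    rw [wordU_cons]
    have hp := hw p List.mem_cons_self
    exact Subgroup.mul_mem _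
      (Subgroup.subset_closure ⟨p.1, p.2, (pos_iff24 _ hp.1).2 hp.2, rfl⟩)
      (ih fun q hq => hw q (List.mem_cons_of_mem _ hq))

theorem wordL_zero4 (L : List ℕ) (t : ℕ → K) (h : ∀ r ∈ L, t r = 0) :
    (hadd4 K).wordU (wordL L t) = 1 := by
  induction L with
  | nil => rfl
  | cons r L ih =>
    have e1 : wordL (r :: L) t = (r, t r) :: wordL L t := rfl
    rw [e1, wordU_cons, ih (fun s hs => h s (List.mem_cons_of_mem _ hs)), h r List.mem_cons_self,
      mul_one]
    exact xU_zero4 r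

/-- conjugation of a word by an element acting by a character -/
theorem conj_char_word4 (g : GL chevF4.Idx K) (χ : ℕ → Kˣ)
    (hχ : ∀ s < chevF4.nroots, ∀ u : K, g * (hadd4 K).xU s u * g⁻¹
      = (hadd4 K).xU s ((χ s : K) * u))
    (w : List (ℕ × K)) (hw : ∀ p ∈ w, p.1 < chevF4.nroots) :
    g * (hadd4 K).wordU w * g⁻¹ = (hadd4 K).wordU (w.map fun p => (p.1, (χ p.1 : K) * p.2)) := by
  induction w with
  | nil =>
    rw [List.map_nil, wordU_nil]
    group
  | cons p w ih =>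
    rw [List.map_cons, wordU_cons, wordU_cons,
      ← ih (fun p' hp' => hw p' (List.mem_cons_of_mem _ hp')),
      ← hχ p.1 (hw p List.mem_cons_self) p.2]
    group

variable [Finite K]

/-- the second parameter of a product `x₃₃(a) x₂₄(b)` is determined -/
theorem word2_inj (a b a' b' : K)
    (e : (hadd4 K).xU 33 a * (hadd4 K).xU 24 b = (hadd4 K).xU 33 a' * (hadd4 K).xU 24 b') :
    b = b' := by
  have key : ∀ t : ℕ → K, (∀ r ∈ L0.drop 2, t r = 0) →
      (hadd4 K).wordU (wordL L0 t) = (hadd4 K).xU 33 (t 33) * (hadd4 K).xU 24 (t 24) := by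
    intro t ht
    have e1 : L0 = [33, 24] ++ L0.drop 2 := by decide
    rw [e1, wordL_append, Tw.wordU_append, wordL_zero4 _ _ ht, mul_one]
    show (hadd4 K).wordU [(33, t 33), (24, t 24)] = _
    simp only [wordU_cons, wordU_nil, mul_one]
  set t : ℕ → K := fun r => if r = 33 then a else if r = 24 then b else 0 with ht
  set t' : ℕ → K := fun r => if r = 33 then a' else if r = 24 then b' else 0 with ht'
  have hz : ∀ r ∈ L0.drop 2, r ≠ 33 ∧ r ≠ 24 := by decide
  have h1 := key t (fun r hr => by rw [ht]; simp only [(hz r hr).1, (hz r hr).2, if_false])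
  have h2 := key t' (fun r hr => by rw [ht']; simp only [(hz r hr).1, (hz r hr).2, if_false])
  have e33 : t 33 = a := by rw [ht]; simp
  have e24 : t 24 = b := by rw [ht]; simp
  have e33' : t' 33 = a' := by rw [ht']; simp
  have e24' : t' 24 = b' := by rw [ht']; simp
  rw [e33, e24] at h1
  rw [e33', e24'] at h2
  have h3 := wordL_injective hD4 (hadd4 K) L0 ordL0 t t' (by rw [h1, h2, e]) 24 (by decide)
  rw [e24, e24'] at h3
  exact h3

/-- the second parameter of a product `x₂₇(a) x₂₅(b) x₂₈(c) x₃₀(d)` is determined -/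
theorem word4_inj (a b c d a' b' c' d' : K)
    (e : (hadd4 K).xU 27 a * ((hadd4 K).xU 25 b * ((hadd4 K).xU 28 c * (hadd4 K).xU 30 d))
      = (hadd4 K).xU 27 a' * ((hadd4 K).xU 25 b' * ((hadd4 K).xU 28 c' * (hadd4 K).xU 30 d'))) :
    b = b' := by
  have key : ∀ t : ℕ → K, (∀ r ∈ L0.take 20, t r = 0) →
      (hadd4 K).wordU (wordL L0 t) = (hadd4 K).xU 27 (t 27) * ((hadd4 K).xU 25 (t 25) *
        ((hadd4 K).xU 28 (t 28) * (hadd4 K).xU 30 (t 30))) := by
    intro t ht
    have e1 : L0 = L0.take 20 ++ [27, 25, 28, 30] := by decide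
    rw [e1, wordL_append, Tw.wordU_append, wordL_zero4 _ _ ht, one_mul]
    show (hadd4 K).wordU [(27, t 27), (25, t 25), (28, t 28), (30, t 30)] = _
    simp only [wordU_cons, wordU_nil, mul_one]
  set t : ℕ → K := fun r => if r = 27 then a else if r = 25 then b else if r = 28 then c
    else if r = 30 then d else 0 with ht
  set t' : ℕ → K := fun r => if r = 27 then a' else if r = 25 then b' else if r = 28 then c'
    else if r = 30 then d' else 0 with ht'
  have hz : ∀ r ∈ L0.take 20, r ≠ 27 ∧ r ≠ 25 ∧ r ≠ 28 ∧ r ≠ 30 := by decide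
  have h1 := key t (fun r hr => by
    rw [ht]; simp only [(hz r hr).1, (hz r hr).2.1, (hz r hr).2.2.1, (hz r hr).2.2.2, if_false])
  have h2 := key t' (fun r hr => by
    rw [ht']; simp only [(hz r hr).1, (hz r hr).2.1, (hz r hr).2.2.1, (hz r hr).2.2.2, if_false])
  have e27 : t 27 = a := by rw [ht]; simp
  have e25 : t 25 = b := by rw [ht]; simp
  have e28 : t 28 = c := by rw [ht]; simp
  have e30 : t 30 = d := by rw [ht]; simp
  have e27' : t' 27 = a' := by rw [ht']; simp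
  have e25' : t' 25 = b' := by rw [ht']; simp
  have e28' : t' 28 = c' := by rw [ht']; simp
  have e30' : t' 30 = d' := by rw [ht']; simp
  rw [e27, e25, e28, e30] at h1
  rw [e27', e25', e28', e30'] at h2
  have h3 := wordL_injective hD4 (hadd4 K) L0 ordL0 t t' (by rw [h1, h2, e]) 25 (by decide)
  rw [e25, e25'] at h3
  exact h3

end

section

variable {K : Type*} [Field K] [Fintype K] [CharP K 2] {m : ℕ}

omit [Fintype K] in
theorem tauT_mem_diag4 (μ : Kˣ × Kˣ) : tauT K m μ ∈ chevF4.diagonalSubgroup K := by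
  have : tauT K m μ ∈ (chevF4.diagonalSubgroup K : Set (GL chevF4.Idx K)) := by
    rw [range_hU hD4]
    exact ⟨_, (tauT_apply μ).symm⟩
  exact this

omit [Fintype K] [CharP K 2] in
theorem prod_fin4 {M : Type*} [CommMonoid M] (f : Fin chevF4.rank → M) :
    ∏ i, f i = f j0 * f j1 * f j2 * f j3 := Fin.prod_univ_four f

omit [Fintype K] in
theorem P1_rw' (t : K) : (P1 K).rw m t = [((33 : ℕ), ph1 K m t), (24, t)] := rfl

omit [Fintype K] in
theorem Q4_rw' (t u : K) : (Q4 K).rw m t u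
    = [((27 : ℕ), ph1 K m t), (25, t), (28, ph1 K m t * t + u), (30, ph2 K m u)] := rfl

omit [Fintype K] in
theorem P1_bd (t : K) : ∀ p ∈ (P1 K).rw m t, p.1 < 48 ∧ 24 ≤ p.1 := by
  intro p hp
  rw [P1_rw'] at hp
  simp only [List.mem_cons, List.not_mem_nil, or_false] at hp
  rcases hp with rfl | rfl <;> exact ⟨by norm_num, by norm_num⟩

omit [Fintype K] in
theorem Q4_bd (t u : K) : ∀ p ∈ (Q4 K).rw m t u, p.1 < 48 ∧ 24 ≤ p.1 := by
  intro p hp
  rw [Q4_rw'] at hp
  simp only [List.mem_cons, List.not_mem_nil, or_false] at hp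
  rcases hp with rfl | rfl | rfl | rfl <;> exact ⟨by norm_num, by norm_num⟩

omit [Fintype K] [CharP K 2] in
theorem wordU_two (r1 r2 : ℕ) (a b : K) : (hadd4 K).wordU [(r1, a), (r2, b)]
    = (hadd4 K).xU r1 a * (hadd4 K).xU r2 b := by
  simp only [wordU_cons, wordU_nil, mul_one]

omit [Fintype K] [CharP K 2] in
theorem wordU_four (r1 r2 r3 r4 : ℕ) (a b c d : K) :
    (hadd4 K).wordU [(r1, a), (r2, b), (r3, c), (r4, d)]
    = (hadd4 K).xU r1 a * ((hadd4 K).xU r2 b * ((hadd4 K).xU r3 c * (hadd4 K).xU r4 d)) := by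
  simp only [wordU_cons, wordU_nil, mul_one]

omit [Fintype K] in
/-- the characters of an element of `H¹` on the roots `p₃` and `p₄` -/
theorem tauT_char4 (μ : Kˣ × Kˣ) : ∃ χ : ℕ → Kˣ,
    (∀ s < chevF4.nroots, ∀ u : K, tauT K m μ * (hadd4 K).xU s u * (tauT K m μ)⁻¹
      = (hadd4 K).xU s ((χ s : K) * u)) ∧
    χ 24 = μ.2 ^ (-1 : ℤ) * μ.1 ^ (2 : ℤ) ∧
    χ 25 = (Units.map (ph1 K m : K →* K) μ.2) ^ (-2 : ℤ) * μ.2 ^ (2 : ℤ) * μ.1 ^ (-1 : ℤ) := by
  obtain ⟨χ, h1, h2⟩ := diag_conj_char chevF4 hD4 (tauT K m μ) (tauT_mem_diag4 μ)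
  have key : ∀ (v : ℕ) (hv : v < chevF4.nroots), χ v
      = zact (cartanM chevF4) (tauC K m μ) ⟨v, hv⟩ := by
    intro v hv
    rw [tauT_apply, hU_apply, diagU_val] at h1
    unfold ChevalleyDatum.charDiag at h1
    have h3 := Matrix.diagonal_injective h1
    have h4 := congrFun h3 (Sum.inr ⟨v, hv⟩)
    simp only [Sum.elim_inr] at h4
    exact Units.ext h4.symm
  refine ⟨χ, h2, ?_, ?_⟩
  · rw [key 24 (by decide), zact_apply, prod_fin4]
    have a0 : cartanM chevF4 j0 ⟨24, by decide⟩ = 0 := by decide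
    have a1 : cartanM chevF4 j1 ⟨24, by decide⟩ = 0 := by decide
    have a2 : cartanM chevF4 j2 ⟨24, by decide⟩ = -1 := by decide
    have a3 : cartanM chevF4 j3 ⟨24, by decide⟩ = 2 := by decide
    rw [a0, a1, a2, a3, zpow_zero, zpow_zero, one_mul, one_mul]
    rfl
  · rw [key 25 (by decide), zact_apply, prod_fin4]
    have a0 : cartanM chevF4 j0 ⟨25, by decide⟩ = 0 := by decide
    have a1 : cartanM chevF4 j1 ⟨25, by decide⟩ = -2 := by decide
    have a2 : cartanM chevF4 j2 ⟨25, by decide⟩ = 2 := by decide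
    have a3 : cartanM chevF4 j3 ⟨25, by decide⟩ = -1 := by decide
    rw [a0, a1, a2, a3, zpow_zero, one_mul]
    rfl

/-- an element of `H¹` commuting with two fixed elements of `U` is trivial -/
theorem tauT_eq_one_of_comm (hK : Fintype.card K = 2 ^ (2 * m + 1)) (μ : Kˣ × Kˣ)
    (hA : tauT K m μ * (hadd4 K).wordU ((P1 K).rw m 1) * (tauT K m μ)⁻¹
      = (hadd4 K).wordU ((P1 K).rw m 1))
    (hB : tauT K m μ * (hadd4 K).wordU ((Q4 K).rw m 1 0) * (tauT K m μ)⁻¹
      = (hadd4 K).wordU ((Q4 K).rw m 1 0)) : μ = 1 := by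
  obtain ⟨χ, h2, e24, e25⟩ := tauT_char4 (m := m) μ
  -- the two characters are trivial
  have c24 : (χ 24 : K) = 1 := by
    rw [conj_char_word4 _ χ h2 _ (fun p hp => (P1_bd 1 p hp).1), P1_rw'] at hA
    simp only [List.map_cons, List.map_nil] at hA
    rw [wordU_two, wordU_two] at hA
    have := word2_inj _ _ _ _ hA
    rwa [mul_one] at this
  have c25 : (χ 25 : K) = 1 := by
    rw [conj_char_word4 _ χ h2 _ (fun p hp => (Q4_bd 1 0 p hp).1), Q4_rw'] at hB
    simp only [List.map_cons, List.map_nil] at hB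
    rw [wordU_four, wordU_four] at hB
    have := word4_inj _ _ _ _ _ _ _ _ hB
    rwa [mul_one] at this
  -- the equations in the field
  set a : K := (μ.1 : K) with ha
  set b : K := (μ.2 : K) with hb
  have ha0 : a ≠ 0 := μ.1.ne_zero
  have hb0 : b ≠ 0 := μ.2.ne_zero
  have E1 : b = a ^ 2 := by
    have h := c24
    rw [e24, Units.val_mul, Units.val_zpow_eq_zpow_val, Units.val_zpow_eq_zpow_val] at h
    have h' : b ^ (-1 : ℤ) * a ^ (2 : ℤ) = 1 := h
    rw [zpow_neg, zpow_one] at h'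
    have h'' : a ^ 2 = b := by
      have : a ^ (2 : ℤ) = a ^ 2 := by norm_cast
      rw [this] at h'
      field_simp at h'
      exact h'.symm ▸ rfl
    exact h''.symm
  have E2 : b ^ 2 = (ph1 K m b) ^ 2 * a := by
    have h := c25
    rw [e25, Units.val_mul, Units.val_mul, Units.val_zpow_eq_zpow_val, Units.val_zpow_eq_zpow_val,
      Units.val_zpow_eq_zpow_val, Units.coe_map] at h
    have h' : (ph1 K m b) ^ (-2 : ℤ) * b ^ (2 : ℤ) * a ^ (-1 : ℤ) = 1 := h
    have hp : ph1 K m b ≠ 0 := (map_ne_zero _).2 hb0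
    rw [zpow_neg, zpow_neg, zpow_one] at h'
    have e1 : (ph1 K m b) ^ (2 : ℤ) = (ph1 K m b) ^ 2 := by norm_cast
    have e2 : b ^ (2 : ℤ) = b ^ 2 := by norm_cast
    rw [e1, e2] at h'
    field_simp at h'
    linear_combination h'
  -- `a³ = (ph1 a)⁴`
  have E3 : a ^ 3 = (ph1 K m a) ^ 4 := by
    rw [E1, map_pow] at E2
    have : a * a ^ 3 = a * (ph1 K m a) ^ 4 := by linear_combination E2
    exact mul_left_cancel₀ ha0 this
  -- apply `ph1`: `(ph1 a)³ = a²`
  have E4 : (ph1 K m a) ^ 3 = a ^ 2 := by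
    have h := congrArg (ph1 K m) E3
    rw [map_pow, map_pow] at h
    have e : (ph1 K m (ph1 K m a)) ^ 4 = a ^ 2 := by
      have : (ph1 K m (ph1 K m a)) ^ 4 = ((ph1 K m (ph1 K m a)) ^ 2) ^ 2 := by ring
      rw [this, ph1_pow2, ph2_ph1 hK]
    rw [e] at h
    exact h
  have hp : ph1 K m a ≠ 0 := (map_ne_zero _).2 ha0
  -- `a = ph1 a`
  have E5 : a = ph1 K m a := by
    have : a ^ 2 * a = a ^ 2 * ph1 K m a := by
      have : a ^ 2 * ph1 K m a = (ph1 K m a) ^ 4 := by rw [← E4]; ring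
      rw [this, ← E3]
      ring
    exact mul_left_cancel₀ (pow_ne_zero 2 ha0) this
  have E6 : a = 1 := by
    rw [← E5] at E4
    have : a ^ 2 * a = a ^ 2 * 1 := by linear_combination E4
    exact mul_left_cancel₀ (pow_ne_zero 2 ha0) this
  have E7 : b = 1 := by rw [E1, E6, one_pow]
  apply Prod.ext
  · exact Units.ext E6
  · exact Units.ext E7

/-- the core of `B¹` is trivial -/
theorem core_eq_bot (hK : Fintype.card K = 2 ^ (2 * m + 1)) :
    ((chevF4.borelSubgroup K ⊓ twistedF4 K (2 ^ m)).subgroupOf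
      (twistedF4 K (2 ^ m))).normalCore = ⊥ := by
  have hHB : chevF4.diagonalSubgroup K ≤ chevF4.borelSubgroup K := le_sup_right
  have hn0G : nW K Lw0 ∈ twistedF4 K (2 ^ m) := nW_wd_mem_twisted _
  -- the core is contained in `H`
  have step1 : ∀ y ∈ ((chevF4.borelSubgroup K ⊓ twistedF4 K (2 ^ m)).subgroupOf
      (twistedF4 K (2 ^ m))).normalCore, (y : GL chevF4.Idx K) ∈ chevF4.diagonalSubgroup K := by
    intro y hy
    have hyB := Subgroup.normalCore_le _ hy
    rw [Subgroup.mem_subgroupOf] at hyB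
    obtain ⟨u, hu, h, hh, e, fu, fh⟩ := borel_fixR hK _ hyB.1 (twisted_le_fixR hK hyB.2)
    have hs := hy ⟨nW K Lw0, hn0G⟩
    rw [Subgroup.mem_subgroupOf] at hs
    have hs' : nW K Lw0 * (y : GL chevF4.Idx K) * (nW K Lw0)⁻¹ ∈ chevF4.borelSubgroup K := hs.1
    rw [e] at hs'
    have hu1 : u = 1 := by
      have h1 : nW K Lw0 * u * (nW K Lw0)⁻¹
          ∈ chevF4.borelSubgroup K ⊓ chevF4.negUnipotent K := by
        refine ⟨?_, n0_conj_pos u hu⟩
        have e2 : nW K Lw0 * u * (nW K Lw0)⁻¹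
            = (nW K Lw0 * (u * h) * (nW K Lw0)⁻¹) * (nW K Lw0 * h * (nW K Lw0)⁻¹)⁻¹ := by group
        rw [e2]
        exact Subgroup.mul_mem _ hs' (Subgroup.inv_mem _
          (hHB (mono_normalizes _ _ (nW_mem_mono _) hh).1))
      rw [(borel_inf_neg_all chevF4 hD4).1, Subgroup.mem_bot] at h1
      have e3 : u = (nW K Lw0)⁻¹ * (nW K Lw0 * u * (nW K Lw0)⁻¹) * nW K Lw0 := by group
      rw [e3, h1]
      group
    rw [e, hu1, one_mul]
    exact hh
  rw [eq_bot_iff]
  intro x hx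
  rw [Subgroup.mem_bot]
  have hxH := step1 x hx
  -- `x` commutes with the elements of `U¹`
  have step2 : ∀ u ∈ chevF4.posUnipotent K ⊓ twistedF4 K (2 ^ m),
      (x : GL chevF4.Idx K) * u * (x : GL chevF4.Idx K)⁻¹ = u := by
    intro u hu
    have hnorm : (((chevF4.borelSubgroup K ⊓ twistedF4 K (2 ^ m)).subgroupOf
      (twistedF4 K (2 ^ m))).normalCore).Normal := Subgroup.normalCore_normal _
    have hconj := hnorm.conj_mem x hx (⟨u, hu.2⟩⁻¹)
    have h1 := step1 _ hconj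
    have h1' : u⁻¹ * (x : GL chevF4.Idx K) * u⁻¹⁻¹ ∈ chevF4.diagonalSubgroup K := h1
    rw [inv_inv] at h1'
    have h2 : u⁻¹ * ((x : GL chevF4.Idx K) * u * (x : GL chevF4.Idx K)⁻¹)
        ∈ chevF4.posUnipotent K ⊓ chevF4.diagonalSubgroup K := by
      constructor
      · apply Subgroup.mul_mem _ (Subgroup.inv_mem _ hu.1)
        exact (Subgroup.mem_normalizer_iff.1
          ((borel_semidirect_all chevF4 hD4).1 hxH) u).1 hu.1
      · have e : u⁻¹ * ((x : GL chevF4.Idx K) * u * (x : GL chevF4.Idx K)⁻¹)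
            = (u⁻¹ * (x : GL chevF4.Idx K) * u) * (x : GL chevF4.Idx K)⁻¹ := by group
        rw [e]
        exact Subgroup.mul_mem _ h1' (Subgroup.inv_mem _ hxH)
    rw [(borel_semidirect_all chevF4 hD4).2, Subgroup.mem_bot] at h2
    exact (inv_mul_eq_one.1 h2).symm
  have hxf : (x : GL chevF4.Idx K) ∈ chevF4.diagonalSubgroup K ⊓ fixR hK :=
    ⟨hxH, twisted_le_fixR hK x.2⟩
  obtain ⟨μ, hμ⟩ := (diag_fixed_iff hK _).1 hxf
  have hmemA : (hadd4 K).wordU ((P1 K).rw m 1)
      ∈ chevF4.posUnipotent K ⊓ twistedF4 K (2 ^ m) := by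
    refine ⟨wordU_mem_pos _ (P1_bd 1), ?_⟩
    rw [P1_rw]
    exact pairU_mem_twisted _ _
  have hmemB : (hadd4 K).wordU ((Q4 K).rw m 1 0)
      ∈ chevF4.posUnipotent K ⊓ twistedF4 K (2 ^ m) := by
    refine ⟨wordU_mem_pos _ (Q4_bd 1 0), ?_⟩
    rw [Q4_rw]
    exact b2U_mem_twisted _ _ _
  have hcA := step2 _ hmemA
  have hcB := step2 _ hmemB
  rw [← hμ] at hcA hcB
  have hμ1 := tauT_eq_one_of_comm hK μ hcA hcB
  apply Subtype.ext
  rw [← hμ, hμ1, map_one]
  rfl

end

end Cfsg.Agent.Lib.Helper5.F4W
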