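import Cfsg.Agent.Lib.Helper5.F4W.WeylFix2
import Cfsg.Agent.Lib.Helper5.Chev.CxF4
import Cfsg.Agent.Lib.Helper5.GA.F4Defs
import Mathlib

/-!
# The Weyl group of `F₄` under the graph automorphism: the dihedral group of order 16 (helper5)
-/

set_option autoImplicit false
set_option maxRecDepth 100000

namespace Cfsg.Agent.Lib.Helper5.F4W

open Cfsg.Lie Cfsg.Agent.Lib.Helper5.Chev Cfsg.Agent.Lib.Helper5.Tw Cfsg.Agent.Lib.Helper5.GA

/-- the Weyl group data of `F₄` -/
def WF : WD := wdOf DataF4.fd BsF4.Bs CxF4.mLL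

/-- the graph automorphism on the fundamental roots -/
def piL : List ℕ := [3, 2, 1, 0]

/-- the graph automorphism on the roots -/
def sgL : List ℕ := [3, 7, 8, 0, 9, 11, 18, 1, 2, 4, 15, 5, 16, 21, 23, 10, 12, 19, 6, 17, 22, 13,
  20, 14, 33, 27, 34, 25, 30, 41, 28, 35, 37, 24, 26, 31, 42, 32, 43, 45, 46, 29, 36, 38, 47, 39,
  40, 44]

theorem sgL_eq : ∀ r < 48, sgL.getD r 0 = F4.rho r := by decide

/-- the words of the two orbits -/
def wA : List ℕ := [0, 3]

def wB : List ℕ := [1, 2, 1, 2]

def Ws : List (List ℕ) := [wA, wB]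

theorem graphW : GraphW WF piL piL sgL sgL := by decide +kernel

theorem orbOK : OrbOK2 WF piL Ws := by decide +kernel

/-- the word `L` repeated `k` times -/
def rep (k : ℕ) (L : List ℕ) : List ℕ := (List.replicate k L).flatten

/-- words for the sixteen fixed elements, indexed by the dihedral group -/
def wd : DihedralGroup 8 → List ℕ
  | .r i => rep i.val (wA ++ wB)
  | .sr i => wA ++ rep i.val (wA ++ wB)

theorem wd_lt : ∀ g : DihedralGroup 8, ∀ i ∈ wd g, i < 4 := by decide +kernel

theorem wd_one : wd 1 = [] := by decide +kernel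

theorem wd_A : wd (DihedralGroup.sr 0) = wA := by decide +kernel

theorem wd_B : ∀ k < 4, WF.act (wd (DihedralGroup.sr 1)) (WF.p k) = WF.act wB (WF.p k) := by
  decide +kernel

/-- the multiplication table -/
theorem wd_mul : ∀ g g' : DihedralGroup 8, ∀ k < 4,
    WF.act (wd g ++ wd g') (WF.p k) = WF.act (wd (g * g')) (WF.p k) := by
  decide +kernel

/-- the sixteen elements are distinct -/
theorem wd_inj : ∀ g g' : DihedralGroup 8,
    (∀ k < 4, WF.act (wd g) (WF.p k) = WF.act (wd g') (WF.p k)) → g = g' := by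
  decide +kernel

end Cfsg.Agent.Lib.Helper5.F4W
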