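import Cfsg.Agent.Lib.Helper5.Chev.MonoB
import Cfsg.Agent.Lib.Helper5.Chev.CardAll
import Cfsg.Agent.Lib.Helper5.Chev.UCardAll
import Cfsg.Prelude.Def_LieTwisted
import Mathlib

/-!
# The height grading of the adjoint module of `F₄`, and the exponent of `U` in characteristic 2
(helper5)

The root elements of the positive roots raise the height, which takes the 23 values `-11, …, 11`
on the Chevalley basis; hence `(u - 1) ^ 23 = 0` for `u ∈ U`, and `u ^ 32 = 1` in characteristic 2.
As `U` is a Sylow 2-subgroup of `F₄(2ⁿ)`, every 2-element of `F₄(2ⁿ)` has order at most 32.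
-/

set_option autoImplicit false
set_option maxRecDepth 100000

namespace Cfsg.Agent.Lib.Helper5.F4W

open Cfsg.Lie Cfsg.Agent.Lib.Helper5.Chev
open scoped Matrix

section gen

variable {F : Type*} [Field F] {T : FD} {D : ChevalleyDatum}

/-- a root element raises a grading of the coordinates which is compatible with the root -/
theorem filt_x_gen (hA : T.Agrees D) (b : D.Idx → ℤ) (r : ℕ) (hr : r < D.nroots)
    (g2 : ∀ k : Fin D.rank, ∀ s : Fin D.nroots, s.val = D.negIdx.getD r 0 →
      b (Sum.inr s) + 1 ≤ b (Sum.inl k))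
    (g3 : ∀ j : Fin D.rank, b (Sum.inl j) + 1 ≤ b (Sum.inr ⟨r, hr⟩))
    (g4 : ∀ s : Fin D.nroots, s.val = D.negIdx.getD r 0 →
      b (Sum.inr s) + 1 ≤ b (Sum.inr ⟨r, hr⟩))
    (g5 : ∀ s u : Fin D.nroots, (∃ q ∈ T.ch r s.val, q.1 = u.val) →
      b (Sum.inr s) + 1 ≤ b (Sum.inr u)) (t : F) :
    Filt b 1 (D.x F r t - 1) := by
  rw [x_eq_xMat r hr]
  intro u s hne
  rw [Matrix.sub_apply] at hne
  rcases u with k | u <;> rcases s with j | s
  · rw [xMat_ll, Matrix.one_apply] at hne
    simp only [Sum.inl.injEq] at hne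
    exact absurd (sub_self _) hne
  · rw [xMat_lr, Matrix.one_apply_ne (by simp)] at hne
    split_ifs at hne with hc
    · exact g2 k s hc.1
    · simp at hne
  · rw [xMat_rl, Matrix.one_apply_ne (by simp)] at hne
    split_ifs at hne with hc
    · subst hc
      exact g3 j
    · simp at hne
  · by_cases hus : u = s
    · subst hus
      exfalso
      apply hne
      rw [Matrix.one_apply_eq, sub_eq_zero]
      simp only [ChevalleyDatum.xMat, Matrix.of_apply]
      by_cases hc1 : u = ⟨r, hr⟩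
      · simp [hc1]
      · rw [if_neg hc1]
        by_cases hc2 : u.val = D.negIdx.getD r 0
        · simp [hc2]
        · rw [if_neg hc2]
          have hcoef : D.chainCoeff r u.val u.val = [] := by
            by_contra hcon
            rw [FD.chainCoeff_eq hA r u.val u.val hr u.2] at hcon
            obtain ⟨q, hq, hqu⟩ := mem_of_coeffOf_ne_nil _ _ hcon
            have := g5 u u ⟨q, hq, hqu⟩
            omega
          simp [hcoef]
    · rw [Matrix.one_apply_ne (fun hh => hus (Sum.inr.inj hh)), sub_zero] at hne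
      simp only [ChevalleyDatum.xMat, Matrix.of_apply] at hne
      by_cases hc1 : s = ⟨r, hr⟩
      · rw [if_pos hc1] at hne
        subst hc1
        rw [if_neg hus] at hne
        exact absurd rfl hne
      · rw [if_neg hc1] at hne
        by_cases hc2 : s.val = D.negIdx.getD r 0
        · rw [if_pos hc2, if_neg hus] at hne
          split_ifs at hne with hc3
          · subst hc3
            exact g4 s hc2
          · exact absurd rfl hne
        · rw [if_neg hc2, if_neg hus, zero_add] at hne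
          have hcoef : D.chainCoeff r s.val u.val ≠ [] := by
            intro hcon
            apply hne
            rw [hcon]
            rfl
          rw [FD.chainCoeff_eq hA r s.val u.val hr s.2] at hcoef
          obtain ⟨q, hq, hqu⟩ := mem_of_coeffOf_ne_nil _ _ hcoef
          exact g5 s u ⟨q, hq, hqu⟩

end gen

/-- the heights of the roots of `F₄` -/
def htL : List ℤ := [-11, -10, -9, -8, -7, -6, -5, -7, -6, -5, -4, -4, -3, -2, -1, -5, -4, -3, -3,
  -2, -1, -2, -1, -1, 1, 1, 2, 1, 2, 3, 3, 4, 5, 1, 2, 3, 4, 4, 5, 6, 7, 5, 6, 7, 8, 9, 10, 11]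

/-- the height grading of the coordinates -/
def htb : chevF4.Idx → ℤ := Sum.elim (fun _ => 0) (fun v => htL.getD v.val 0)

theorem htb_inl (i : Fin chevF4.rank) : htb (Sum.inl i) = 0 := rfl

theorem htb_inr (v : Fin chevF4.nroots) : htb (Sum.inr v) = htL.getD v.val 0 := rfl

theorem htL_bounds : ∀ v < 48, -11 ≤ htL.getD v 0 ∧ htL.getD v 0 ≤ 11 := by decide

theorem htb_bounds (u : chevF4.Idx) : -11 ≤ htb u ∧ htb u ≤ 11 := by
  rcases u with i | v
  · rw [htb_inl]
    constructor <;> norm_num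
  · rw [htb_inr]
    exact htL_bounds v.val v.2

/-- the compatibility of the heights with the chains of the positive roots -/
theorem htOK : ∀ r < 48, 24 ≤ r →
    (1 ≤ htL.getD r 0 ∧ htL.getD (chevF4.negIdx.getD r 0) 0 + 1 ≤ 0 ∧
      ∀ s < 48, ∀ q ∈ DataF4.fd.ch r s, htL.getD s 0 + 1 ≤ htL.getD q.1 0) := by
  decide +kernel

theorem hF4 : chevF4 ∈ [chevG2, chevB2, chevD4, chevF4, chevE6, chevE7, chevE8] := by simp

section

variable {F : Type*} [Field F]

/-- the root elements of the positive roots raise the height -/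
theorem filt_x_ht (r : ℕ) (hr : chevF4.IsPosRoot r) (t : F) :
    Filt htb 1 (chevF4.x F r t - 1) := by
  have hr48 : r < 48 := hr.1
  have h24 : 24 ≤ r := (pos_iff_all chevF4 hF4 r hr.1).1 hr
  obtain ⟨o1, o2, o3⟩ := htOK r hr48 h24
  apply filt_x_gen DataF4.agrees htb r hr48
  · intro k s hs
    rw [htb_inl, htb_inr, hs]
    exact o2
  · intro j
    rw [htb_inl, htb_inr]
    show (0 : ℤ) + 1 ≤ htL.getD r 0
    omega
  · intro s hs
    rw [htb_inr, htb_inr, hs]
    show htL.getD (chevF4.negIdx.getD r 0) 0 + 1 ≤ htL.getD r 0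
    omega
  · rintro s u ⟨q, hq, hqu⟩
    rw [htb_inr, htb_inr, ← hqu]
    exact o3 s.val s.2 q hq

/-- `U` raises the height -/
theorem pos_le_UG_ht : chevF4.posUnipotent F ≤ UG htb 1 := by
  have hadd := allAdd_all (F := F) chevF4 hF4
  unfold ChevalleyDatum.posUnipotent
  rw [Subgroup.closure_le]
  rintro g ⟨r, t, hr, hg⟩
  have : g = hadd.xU r t := Units.ext hg
  subst this
  constructor
  · rw [Nat.cast_one]
    exact filt_x_ht r hr t
  · rw [Nat.cast_one]
    exact filt_x_ht r hr (-t)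

/-- in characteristic 2 the group `U` has exponent dividing 32 -/
theorem pos_pow32 [CharP F 2] (g : GL chevF4.Idx F) (hg : g ∈ chevF4.posUnipotent F) :
    g ^ 32 = 1 := by
  have h1 : Filt htb 1 ((g : Matrix chevF4.Idx chevF4.Idx F) - 1) := (pos_le_UG_ht hg).1
  have h2 := h1.pow 32
  have h3 : ((g : Matrix chevF4.Idx chevF4.Idx F) - 1) ^ 32 = 0 := by
    apply h2.eq_zero (-11) 11 htb_bounds
    norm_num
  have : Fact (Nat.Prime 2) := ⟨Nat.prime_two⟩
  have : Nonempty chevF4.Idx := ⟨Sum.inl ⟨0, by decide⟩⟩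
  have h4 : ((g : Matrix chevF4.Idx chevF4.Idx F) - 1) ^ 2 ^ 5
      = (g : Matrix chevF4.Idx chevF4.Idx F) ^ 2 ^ 5 - 1 ^ 2 ^ 5 :=
    sub_pow_char_pow_of_commute 2 5 (Commute.one_right _)
  have e32 : (2 : ℕ) ^ 5 = 32 := by norm_num
  rw [e32, h3, one_pow] at h4
  apply Units.ext
  rw [Units.val_pow_eq_pow_val, Units.val_one]
  exact (sub_eq_zero.1 h4.symm)

end

section

variable {K : Type*} [Field K] [Fintype K]

/-- the index of `U` in `F₄(2ⁿ)` is odd -/
theorem pos_index_odd (n : ℕ) (hn : n ≠ 0) (hK : Fintype.card K = 2 ^ n) :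
    ¬ 2 ∣ ((chevF4.posUnipotent K).subgroupOf (chevF4.group K)).index := by
  have hadd := allAdd_all (F := K) chevF4 hF4
  have hle : chevF4.posUnipotent K ≤ chevF4.group K := hadd.posUnipotent_le
  have hcK : Nat.card K = 2 ^ n := by rw [Nat.card_eq_fintype_card, hK]
  have hU : Nat.card ((chevF4.posUnipotent K).subgroupOf (chevF4.group K)) = (2 ^ n) ^ 24 := by
    rw [Nat.card_congr (Subgroup.subgroupOfEquivOfLe hle).toEquiv,
      card_posUnipotent_all chevF4 hF4, hcK]
    rfl
  have hG := card_group_F4 (F := K)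
  rw [one_mul, hcK] at hG
  have e24 : chevF4.nroots / 2 = 24 := by decide
  rw [e24] at hG
  simp only [List.map_cons, List.map_nil, List.prod_cons, List.prod_nil, mul_one] at hG
  have hmul := Subgroup.index_mul_card ((chevF4.posUnipotent K).subgroupOf (chevF4.group K))
  rw [hU, hG, mul_comm] at hmul
  have hpos : 0 < (2 ^ n) ^ 24 := by positivity
  have hidx := Nat.eq_of_mul_eq_mul_left hpos hmul
  rw [hidx]
  have hev : ∀ k : ℕ, k ≠ 0 → Odd ((2 ^ n) ^ k - 1) := by
    intro k hk
    have h1 : Even ((2 ^ n) ^ k) := by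
      rw [← pow_mul]
      exact (Nat.even_pow.2 ⟨even_two, by positivity⟩)
    have h2 : 1 ≤ (2 ^ n) ^ k := Nat.one_le_pow _ _ (by positivity)
    exact Nat.Even.sub_odd h2 h1 odd_one
  have hodd : Odd (((2 ^ n) ^ 2 - 1) * (((2 ^ n) ^ 6 - 1) * (((2 ^ n) ^ 8 - 1) *
      ((2 ^ n) ^ 12 - 1)))) :=
    (hev 2 (by norm_num)).mul ((hev 6 (by norm_num)).mul ((hev 8 (by norm_num)).mul
      (hev 12 (by norm_num))))
  rw [← even_iff_two_dvd, Nat.not_even_iff_odd]
  exact hodd

/-- every 2-element of `F₄(2ⁿ)` has order dividing 32 -/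
theorem two_elt_pow32 (n : ℕ) (hn : n ≠ 0) (hK : Fintype.card K = 2 ^ n)
    (x : GL chevF4.Idx K) (hx : x ∈ chevF4.group K) (j : ℕ) (hj : orderOf x = 2 ^ j) :
    x ^ 32 = 1 := by
  have : Fact (Nat.Prime 2) := ⟨Nat.prime_two⟩
  have : CharP K 2 := by
    have h2 : (2 : K) = 0 := by
      have h := Nat.cast_card_eq_zero K
      rw [hK] at h
      push_cast at h
      exact pow_eq_zero_iff hn |>.1 h
    exact CharTwo.of_one_ne_zero_of_two_eq_zero one_ne_zero h2
  have hadd := allAdd_all (F := K) chevF4 hF4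
  have hle : chevF4.posUnipotent K ≤ chevF4.group K := hadd.posUnipotent_le
  have hcK : Nat.card K = 2 ^ n := by rw [Nat.card_eq_fintype_card, hK]
  -- `U` is a Sylow 2-subgroup
  have hP : IsPGroup 2 ((chevF4.posUnipotent K).subgroupOf (chevF4.group K)) := by
    apply IsPGroup.of_card (n := n * 24)
    rw [Nat.card_congr (Subgroup.subgroupOfEquivOfLe hle).toEquiv,
      card_posUnipotent_all chevF4 hF4, hcK, ← pow_mul]
    rfl
  let P : Sylow 2 ↥(chevF4.group K) := hP.toSylow (pos_index_odd n hn hK)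
  -- the subgroup generated by `x` is a 2-group
  let y : ↥(chevF4.group K) := ⟨x, hx⟩
  have hy : orderOf y = 2 ^ j := by
    rw [← hj]
    exact (Subgroup.orderOf_coe y).symm
  have hZ : IsPGroup 2 (Subgroup.zpowers y) := by
    apply IsPGroup.of_card (n := j)
    rw [Nat.card_zpowers, hy]
  obtain ⟨Q, hQ⟩ := hZ.exists_le_sylow
  obtain ⟨g, hg⟩ := MulAction.exists_smul_eq ↥(chevF4.group K) Q P
  have hyQ : y ∈ Q := hQ (Subgroup.mem_zpowers y)
  have hmem : g * y * g⁻¹ ∈ P := by
    rw [← hg]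
    have h1 := Subgroup.smul_mem_pointwise_smul y (MulAut.conj g)
      (Q : Subgroup ↥(chevF4.group K)) hyQ
    rw [MulAut.smul_def, MulAut.conj_apply] at h1
    exact h1
  have hmemU : ((g * y * g⁻¹ : ↥(chevF4.group K)) : GL chevF4.Idx K) ∈ chevF4.posUnipotent K := by
    have h1 : g * y * g⁻¹ ∈ (chevF4.posUnipotent K).subgroupOf (chevF4.group K) :=
      (IsPGroup.mem_toSylow hP (pos_index_odd n hn hK)).1 hmem
    exact Subgroup.mem_subgroupOf.1 h1
  have h32 := pos_pow32 _ hmemU
  have h32' : (g * y * g⁻¹) ^ 32 = 1 := by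
    apply Subtype.ext
    rw [SubgroupClass.coe_pow]
    exact h32
  rw [conj_pow] at h32'
  have h32'' : y ^ 32 = 1 := by
    have e : y ^ 32 = g⁻¹ * (g * y ^ 32 * g⁻¹) * g := by group
    rw [e, h32']
    group
  have := congrArg Subtype.val h32''
  rwa [SubgroupClass.coe_pow] at this

/-- every 2-element of the large Ree group has order at most 32 -/
theorem two_elt_twisted (m : ℕ) (hK : Fintype.card K = 2 ^ (2 * m + 1))
    (x : ↥(twistedF4 K (2 ^ m))) (hx : ∃ j : ℕ, orderOf x = 2 ^ j) : orderOf x ≤ 32 := by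
  obtain ⟨j, hj⟩ := hx
  have hxG : (x : GL chevF4.Idx K) ∈ chevF4.group K := by
    have hle : twistedF4 K (2 ^ m) ≤ chevF4.group K := by
      unfold twistedF4 ChevalleyDatum.genSubgroup
      rw [Subgroup.closure_le]
      rintro g ⟨w, -, hg⟩
      exact (allAdd_all (F := K) chevF4 hF4).mem_group_of_word g w hg
    exact hle x.2
  have hj' : orderOf (x : GL chevF4.Idx K) = 2 ^ j := by
    rw [Subgroup.orderOf_coe]
    exact hj
  have h32 := two_elt_pow32 (2 * m + 1) (by omega) hK _ hxG j hj'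
  have h32' : x ^ 32 = 1 := by
    apply Subtype.ext
    rw [SubgroupClass.coe_pow]
    exact h32
  exact Nat.le_of_dvd (by norm_num) (orderOf_dvd_of_pow_eq_one h32')

end

end Cfsg.Agent.Lib.Helper5.F4W
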