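import Cfsg.Agent.Lib.Helper5.F4W.Data
import Cfsg.Agent.Lib.Helper8.F4T.NJ
import Cfsg.Agent.Lib.Helper5.Chev.ChevCard
import Mathlib

/-!
# The monomial elements of the large Ree group: `N¹ / H¹` is dihedral of order 16 (helper5)
-/

set_option autoImplicit false
set_option maxRecDepth 100000

namespace Cfsg.Agent.Lib.Helper5.F4W

open Cfsg.Lie Cfsg.Agent.Lib.Helper5.Chev Cfsg.Agent.Lib.Helper5.GA Cfsg.Agent.Lib.Helper5.Tw
open Cfsg.Agent.Lib.Helper8.F4T

theorem cox12 : Cox1 DataF4.fd BsF4.Bs ∧ ∀ i < DataF4.fd.rank, ∀ j < DataF4.fd.rank, i ≠ j →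
    Cox2 DataF4.fd BsF4.Bs CxF4.mLL i j := cox_of_check DataF4.fd BsF4.Bs CxF4.mLL CxF4.cox

theorem hV : WF.Valid := wdOf_valid DataF4.agrees BsF4.Bs CxF4.mLL HsF4.reflBs' cox12.1 cox12.2

theorem hR : WF.RankTwo := wdOf_rankTwo DataF4.agrees BsF4.Bs CxF4.mLL HsF4.reflBs' cox12.1 cox12.2

theorem hmW : ∀ i < WF.l, ∀ j < WF.l, i ≠ j → 1 ≤ WF.m i j :=
  fun i hi j hj hij => (cox12.2 i hi j hj hij).m_pos

theorem isWord_wd (g : DihedralGroup 8) : WF.IsWord (wd g) := wd_lt g

theorem isWord_wA : WF.IsWord wA := by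
  show ∀ x ∈ wA, x < WF.l
  decide

theorem isWord_wB : WF.IsWord wB := by
  show ∀ x ∈ wB, x < WF.l
  decide

/-- equality of the actions on the fundamental roots gives the equality of the actions -/
theorem act_eq_of_simple {u u' : List ℕ} (hu : WF.IsWord u) (hu' : WF.IsWord u')
    (h : ∀ k < 4, WF.act u (WF.p k) = WF.act u' (WF.p k)) :
    ∀ r < WF.n, WF.act u r = WF.act u' r :=
  hV.act_eq_of_simple hR hmW hu hu' h

/-- the element of the dihedral group of a product of orbit words -/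
theorem Js_act (Js : List (List ℕ)) (hJs : ∀ J ∈ Js, J ∈ Ws) :
    ∃ g : DihedralGroup 8, ∀ r < WF.n, WF.act Js.flatten r = WF.act (wd g) r := by
  induction Js with
  | nil =>
    refine ⟨1, ?_⟩
    intro r _
    rw [wd_one]
    rfl
  | cons J Js ih =>
    obtain ⟨g, hg⟩ := ih (fun J' hJ' => hJs J' (List.mem_cons_of_mem _ hJ'))
    have hJ := hJs J List.mem_cons_self
    have hJ' : J = wA ∨ J = wB := by
      simpa [Ws] using hJ
    rcases hJ' with rfl | rfl
    · refine ⟨DihedralGroup.sr 0 * g, ?_⟩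
      intro r hr
      have h1 := act_eq_of_simple ((isWord_wd (DihedralGroup.sr 0)).append WF (isWord_wd g))
        (isWord_wd _) (wd_mul (DihedralGroup.sr 0) g) r hr
      rw [← h1, wd_A, List.flatten_cons, WF.act_append, WF.act_append, hg r hr]
    · refine ⟨DihedralGroup.sr 1 * g, ?_⟩
      intro r hr
      have h1 := act_eq_of_simple ((isWord_wd (DihedralGroup.sr 1)).append WF (isWord_wd g))
        (isWord_wd _) (wd_mul (DihedralGroup.sr 1) g) r hr
      have h2 := act_eq_of_simple (isWord_wd (DihedralGroup.sr 1)) isWord_wB wd_B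
      rw [← h1, List.flatten_cons, WF.act_append, WF.act_append, hg r hr,
        h2 _ (hV.act_lt (isWord_wd g) hr)]

section

variable {K : Type*} [Field K]

/-- the representative of a word -/
noncomputable def nW (K : Type*) [Field K] (L : List ℕ) : GL chevF4.Idx K :=
  nWordU DataF4.agrees (hadd4 K) L

theorem nW_nil : nW K [] = 1 := by
  simp [nW, nWordU]

theorem nW_append (A B : List ℕ) : nW K (A ++ B) = nW K A * nW K B :=
  Chev.nWordU_append _ _ A B

theorem nW_mem_mono (L : List ℕ) : nW K L ∈ chevF4.monomialSubgroup K := nWordU_mem _ _ L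

theorem nW_rep (k : ℕ) (L : List ℕ) : nW K (rep k L) = nW K L ^ k := by
  induction k with
  | zero =>
    show nW K [] = _
    rw [nW_nil, pow_zero]
  | succ k ih =>
    have e : rep (k + 1) L = L ++ rep k L := by
      unfold rep
      rw [List.replicate_succ, List.flatten_cons]
    rw [e, nW_append, ih, pow_succ']

theorem mono_form (n : GL chevF4.Idx K) (hn : n ∈ chevF4.monomialSubgroup K) :
    ∃ L : List ℕ, (∀ i ∈ L, i < chevF4.rank) ∧ ∃ h ∈ chevF4.diagonalSubgroup K,
      n = nW K L * h :=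
  monomial_le_NWH DataF4.agrees (hadd4 K) BsF4.Bs HsF4.reflBs' HsF4.hform HsF4.gH HsF4.baseH 8
    HsF4.rbH HsF4.base_simple hn

theorem coset_of_act_eq (L L' : List ℕ) (hL : WF.IsWord L) (hL' : WF.IsWord L')
    (h : ∀ r < WF.n, WF.act L r = WF.act L' r) :
    (nW K L)⁻¹ * nW K L' ∈ chevF4.diagonalSubgroup K :=
  nWordU_inv_mul_mem_of_act_eq hD4 DataF4.agrees (hadd4 K) BsF4.Bs CxF4.mLL HsF4.reflBs'
    cox12.1 cox12.2 L L' hL hL' h

theorem act_eq_of_coset (L L' : List ℕ) (hL : WF.IsWord L) (hL' : WF.IsWord L')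
    (h : (nW K L)⁻¹ * nW K L' ∈ chevF4.diagonalSubgroup K) :
    ∀ r < WF.n, WF.act L r = WF.act L' r :=
  act_eq_of_inv_mul_mem hD4 DataF4.agrees (hadd4 K) BsF4.Bs CxF4.mLL HsF4.reflBs'
    cox12.1 cox12.2 HsF4.hform L L' hL hL' h

theorem mono_normalizes (n h : GL chevF4.Idx K) (hn : n ∈ chevF4.monomialSubgroup K)
    (hh : h ∈ chevF4.diagonalSubgroup K) :
    n * h * n⁻¹ ∈ chevF4.diagonalSubgroup K ∧ n⁻¹ * h * n ∈ chevF4.diagonalSubgroup K := by
  have hNH : chevF4.monomialSubgroup K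
      ≤ Subgroup.normalizer (chevF4.diagonalSubgroup K : Set (GL chevF4.Idx K)) :=
    (Subgroup.normal_subgroupOf_iff_le_normalizer le_sup_left).1 (diagonal_normal_all chevF4 hD4)
  exact conj_mem_of_normalizer _ _ _ (hNH hn) hh

/-- the representative of a word, in the group -/
noncomputable def nWG (K : Type*) [Field K] (L : List ℕ) : ↥(chevF4.group K) :=
  (L.map fun i => nG K (chevF4.simple i) 1).prod

theorem nWG_val (L : List ℕ) (hL : ∀ i ∈ L, i < chevF4.rank) :
    ((nWG K L : ↥(chevF4.group K)) : GL chevF4.Idx K) = nW K L := by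
  induction L with
  | nil =>
    show ((1 : ↥(chevF4.group K)) : GL chevF4.Idx K) = nW K []
    rw [nW_nil]
    rfl
  | cons i L ih =>
    have hi := hL i List.mem_cons_self
    have e1 : nWG K (i :: L) = nG K (chevF4.simple i) 1 * nWG K L := by
      simp [nWG]
    have e2 : nW K (i :: L) = nUi DataF4.agrees (hadd4 K) i * nW K L := by
      simp [nW, nWordU]
    rw [e1, e2, Subgroup.coe_mul, ih (fun j hj => hL j (List.mem_cons_of_mem _ hj)), nG_val,
      nUi_eq_nUt i hi]

end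

section

variable {K : Type*} [Field K] [Fintype K] [CharP K 2] {m : ℕ}

theorem rho_simple : ∀ i < 4, F4.rho (chevF4.simple i) = chevF4.simple (piL.getD i 0) := by
  decide

theorem simple_lt4 : ∀ i < 4, chevF4.simple i < chevF4.nroots := by decide

theorem piL_lt : ∀ i < 4, piL.getD i 0 < 4 := by decide

theorem sg_nWG (hK : Fintype.card K = 2 ^ (2 * m + 1)) (L : List ℕ) (hL : ∀ i ∈ L, i < 4) :
    sg hK (nWG K L) = nWG K (mapW piL L) := by
  induction L with
  | nil =>
    show sg hK 1 = 1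
    rw [map_one]
  | cons i L ih =>
    have hi := hL i List.mem_cons_self
    have e1 : nWG K (i :: L) = nG K (chevF4.simple i) 1 * nWG K L := by
      simp [nWG]
    have e2 : nWG K (mapW piL (i :: L))
        = nG K (chevF4.simple (piL.getD i 0)) 1 * nWG K (mapW piL L) := by
      simp [nWG, mapW]
    rw [e1, e2, map_mul, sg_nG hK _ (simple_lt4 i hi), fpar_one, rho_simple i hi,
      ih (fun j hj => hL j (List.mem_cons_of_mem _ hj))]

/-- a fixed element `n_L h` of `N`: the word acts as a fixed element of the Weyl group -/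
theorem mono_fixw (hK : Fintype.card K = 2 ^ (2 * m + 1)) (L : List ℕ) (hL : ∀ i ∈ L, i < 4)
    (h : GL chevF4.Idx K) (hh : h ∈ chevF4.diagonalSubgroup K)
    (hfix : nW K L * h ∈ fixR hK) : Fixw WF piL L := by
  obtain ⟨hg, hsg⟩ := (mem_fixR hK _).1 hfix
  have hhG : h ∈ chevF4.group K := (hadd4 K).monomial_le (le_sup_left (a := chevF4.diagonalSubgroup K) hh)
  have hL' : ∀ i ∈ mapW piL L, i < 4 := by
    intro i hi
    unfold mapW at hi
    rw [List.mem_map] at hi
    obtain ⟨j, hj, rfl⟩ := hi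
    exact piL_lt j (hL j hj)
  have e : (⟨nW K L * h, hg⟩ : ↥(chevF4.group K)) = nWG K L * ⟨h, hhG⟩ := by
    apply Subtype.ext
    rw [Subgroup.coe_mul, nWG_val L hL]
  rw [e, map_mul, sg_nWG hK L hL] at hsg
  have hsh := sg_diag_mem hK ⟨h, hhG⟩ hh
  have e2 := congrArg Subtype.val hsg
  rw [Subgroup.coe_mul, Subgroup.coe_mul, nWG_val _ hL', nWG_val L hL] at e2
  have hmem : (nW K L)⁻¹ * nW K (mapW piL L) ∈ chevF4.diagonalSubgroup K := by
    have e3 : (nW K L)⁻¹ * nW K (mapW piL L)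
        = h * ((sg hK ⟨h, hhG⟩ : ↥(chevF4.group K)) : GL chevF4.Idx K)⁻¹ := by
      calc (nW K L)⁻¹ * nW K (mapW piL L)
          = (nW K L)⁻¹ * (nW K (mapW piL L)
              * ((sg hK ⟨h, hhG⟩ : ↥(chevF4.group K)) : GL chevF4.Idx K))
              * ((sg hK ⟨h, hhG⟩ : ↥(chevF4.group K)) : GL chevF4.Idx K)⁻¹ := by group
        _ = _ := by rw [e2]; group
    rw [e3]
    exact Subgroup.mul_mem _ hh (Subgroup.inv_mem _ hsh)
  have hact := act_eq_of_coset L (mapW piL L) hL hL' hmem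
  intro r hr
  exact (hact r hr).symm

/-- the coset of a fixed monomial element -/
theorem mono_fix_coset (hK : Fintype.card K = 2 ^ (2 * m + 1)) (n : GL chevF4.Idx K)
    (hn : n ∈ chevF4.monomialSubgroup K) (hf : n ∈ fixR hK) :
    ∃ g : DihedralGroup 8, ∃ h ∈ chevF4.diagonalSubgroup K, n = nW K (wd g) * h := by
  obtain ⟨L, hL, h0, hh0, rfl⟩ := mono_form n hn
  have hLw : WF.IsWord L := hL
  have hfw := mono_fixw hK L hL h0 hh0 hf
  obtain ⟨Js, hJs, hact⟩ := fixw_gen2 graphW hV hR hmW orbOK _ L hLw hfw rfl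
  obtain ⟨g, hg⟩ := Js_act Js hJs
  have hc := coset_of_act_eq (K := K) (wd g) L (isWord_wd g) hLw
    (fun r hr => ((hact r hr).trans (hg r hr)).symm)
  refine ⟨g, (nW K (wd g))⁻¹ * nW K L * h0, Subgroup.mul_mem _ hc hh0, ?_⟩
  group

omit [Fintype K] [CharP K 2] in
/-- the coset determines the element of the dihedral group -/
theorem coset_unique (g g' : DihedralGroup 8) (h h' : GL chevF4.Idx K)
    (hh : h ∈ chevF4.diagonalSubgroup K) (hh' : h' ∈ chevF4.diagonalSubgroup K)
    (e : nW K (wd g) * h = nW K (wd g') * h') : g = g' := by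
  apply wd_inj
  have hmem : (nW K (wd g))⁻¹ * nW K (wd g') ∈ chevF4.diagonalSubgroup K := by
    have e3 : (nW K (wd g))⁻¹ * nW K (wd g') = h * h'⁻¹ := by
      calc (nW K (wd g))⁻¹ * nW K (wd g')
          = (nW K (wd g))⁻¹ * (nW K (wd g') * h') * h'⁻¹ := by group
        _ = _ := by rw [← e]; group
    rw [e3]
    exact Subgroup.mul_mem _ hh (Subgroup.inv_mem _ hh')
  have hact := act_eq_of_coset (wd g) (wd g') (isWord_wd g) (isWord_wd g') hmem
  intro k hk
  exact hact _ (hV.p_lt k hk)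

omit [Fintype K] [CharP K 2] in
/-- the product of two cosets -/
theorem coset_mul (g g' : DihedralGroup 8) (h h' : GL chevF4.Idx K)
    (hh : h ∈ chevF4.diagonalSubgroup K) (hh' : h' ∈ chevF4.diagonalSubgroup K) :
    ∃ h'' ∈ chevF4.diagonalSubgroup K,
      (nW K (wd g) * h) * (nW K (wd g') * h') = nW K (wd (g * g')) * h'' := by
  have h1 := (mono_normalizes (nW K (wd g')) h (nW_mem_mono _) hh).2
  have hact := act_eq_of_simple (isWord_wd (g * g')) ((isWord_wd g).append WF (isWord_wd g'))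
    (fun k hk => (wd_mul g g' k hk).symm)
  have hc := coset_of_act_eq (K := K) (wd (g * g')) (wd g ++ wd g') (isWord_wd _)
    ((isWord_wd g).append WF (isWord_wd g')) hact
  rw [nW_append] at hc
  refine ⟨(nW K (wd (g * g')))⁻¹ * (nW K (wd g) * nW K (wd g')) *
    ((nW K (wd g'))⁻¹ * h * nW K (wd g')) * h',
    Subgroup.mul_mem _ (Subgroup.mul_mem _ hc h1) hh', ?_⟩
  group

omit [Fintype K] in
theorem nW_wd_mem_twisted (g : DihedralGroup 8) : nW K (wd g) ∈ twistedF4 K (2 ^ m) := by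
  have hA : nW K wA ∈ twistedF4 K (2 ^ m) := nJ1_mem_twisted (2 ^ m)
  have hB : nW K wB ∈ twistedF4 K (2 ^ m) := nJ2_mem_twisted (2 ^ m) (by positivity)
  have hAB : nW K (wA ++ wB) ∈ twistedF4 K (2 ^ m) := by
    rw [nW_append]
    exact Subgroup.mul_mem _ hA hB
  cases g with
  | r i =>
    show nW K (rep i.val (wA ++ wB)) ∈ _
    rw [nW_rep]
    exact Subgroup.pow_mem _ hAB _
  | sr i =>
    show nW K (wA ++ rep i.val (wA ++ wB)) ∈ _
    rw [nW_append, nW_rep]
    exact Subgroup.mul_mem _ hA (Subgroup.pow_mem _ hAB _)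

/-- `N¹ / H¹` is the dihedral group of order 16 -/
theorem weyl_dihedral (hK : Fintype.card K = 2 ^ (2 * m + 1)) :
    ∃ φ : ↥(chevF4.monomialSubgroup K ⊓ twistedF4 K (2 ^ m)) →* DihedralGroup 8,
      Function.Surjective φ ∧
      φ.ker = (chevF4.diagonalSubgroup K ⊓ twistedF4 K (2 ^ m)).subgroupOf
        (chevF4.monomialSubgroup K ⊓ twistedF4 K (2 ^ m)) := by
  classical
  have hex : ∀ n : ↥(chevF4.monomialSubgroup K ⊓ twistedF4 K (2 ^ m)),
      ∃ g : DihedralGroup 8, ∃ h ∈ chevF4.diagonalSubgroup K,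
        (n : GL chevF4.Idx K) = nW K (wd g) * h :=
    fun n => mono_fix_coset hK n.1 n.2.1 (twisted_le_fixR hK n.2.2)
  let f : ↥(chevF4.monomialSubgroup K ⊓ twistedF4 K (2 ^ m)) → DihedralGroup 8 :=
    fun n => Classical.choose (hex n)
  have hf : ∀ n : ↥(chevF4.monomialSubgroup K ⊓ twistedF4 K (2 ^ m)),
      ∃ h ∈ chevF4.diagonalSubgroup K,
      (n : GL chevF4.Idx K) = nW K (wd (f n)) * h := fun n => Classical.choose_spec (hex n)
  have huniq : ∀ (n : ↥(chevF4.monomialSubgroup K ⊓ twistedF4 K (2 ^ m))) (g : DihedralGroup 8)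
      (h : GL chevF4.Idx K), h ∈ chevF4.diagonalSubgroup K →
      (n : GL chevF4.Idx K) = nW K (wd g) * h → f n = g := by
    intro n g h hh e
    obtain ⟨h', hh', e'⟩ := hf n
    exact coset_unique (f n) g h' h hh' hh (e'.symm.trans e)
  let φ : ↥(chevF4.monomialSubgroup K ⊓ twistedF4 K (2 ^ m)) →* DihedralGroup 8 :=
    { toFun := f
      map_one' := by
        apply huniq 1 1 1 (Subgroup.one_mem _)
        rw [wd_one, nW_nil, mul_one]
        rfl
      map_mul' := by
        intro n n'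
        obtain ⟨h, hh, e⟩ := hf n
        obtain ⟨h', hh', e'⟩ := hf n'
        obtain ⟨h'', hh'', e''⟩ := coset_mul (f n) (f n') h h' hh hh'
        apply huniq (n * n') (f n * f n') h'' hh''
        rw [Subgroup.coe_mul, e, e', e''] }
  refine ⟨φ, ?_, ?_⟩
  · intro g
    refine ⟨⟨nW K (wd g), nW_mem_mono _, nW_wd_mem_twisted g⟩, ?_⟩
    apply huniq _ g 1 (Subgroup.one_mem _)
    rw [mul_one]
  · ext n
    rw [MonoidHom.mem_ker, Subgroup.mem_subgroupOf]
    constructor
    · intro h1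
      obtain ⟨h, hh, e⟩ := hf n
      have h2 : f n = 1 := h1
      rw [h2, wd_one, nW_nil, one_mul] at e
      rw [e]
      refine ⟨hh, ?_⟩
      rw [← e]
      exact n.2.2
    · intro h1
      apply huniq n 1 n h1.1
      rw [wd_one, nW_nil, one_mul]

end

end Cfsg.Agent.Lib.Helper5.F4W
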