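import Cfsg.Agent.Lib.Lead.F4Out.F4Main
import Cfsg.Agent.Lib.Helper5.AutBN.Core
import Cfsg.Agent.Lib.Helper5.Tw.AutTwA
import Mathlib

/-!
# The large Ree groups: the normaliser of `U¹`, the torus, opposite conjugates (helper5)

For lead's `F4BN` (`Lib/Lead/F4Out/F4Main.lean`): the fields `norm` and `torus`, and the facts used
for the normal form of an automorphism.
-/

set_option autoImplicit false
set_option maxRecDepth 100000

namespace Cfsg.Agent.Lib.Helper5.F4W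

open Cfsg Cfsg.Lie Cfsg.Agent.Lib.Helper5.Chev Cfsg.Agent.Lib.Helper5.GA Cfsg.Agent.Lib.Helper5.Tw
open Cfsg.Agent.Lib.Helper8.F4T Cfsg.Agent.Lib.Helper5.AutBN Cfsg.Agent.F4Out
open Cfsg.Agent.Lib.Helper8.BT2 (U1G mem_U1G)

/-! ### facts on the action of the sixteen elements on the roots -/

/-- a non-trivial element maps a fundamental class to negative roots -/
theorem desc_d : ∀ d : DihedralGroup 8, d ≠ 1 →
    (wW BsF4.Bs (wd d) 33 < 24 ∧ wW BsF4.Bs (wd d) 24 < 24) ∨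
    (wW BsF4.Bs (wd d) 27 < 24 ∧ wW BsF4.Bs (wd d) 25 < 24 ∧ wW BsF4.Bs (wd d) 28 < 24 ∧
      wW BsF4.Bs (wd d) 30 < 24) := by decide +kernel

/-- an element other than the longest one maps a fundamental class to positive roots -/
theorem asc_d : ∀ d : DihedralGroup 8, d ≠ DihedralGroup.r 4 →
    (24 ≤ wW BsF4.Bs (wd d) 33 ∧ 24 ≤ wW BsF4.Bs (wd d) 24) ∨
    (24 ≤ wW BsF4.Bs (wd d) 27 ∧ 24 ≤ wW BsF4.Bs (wd d) 25 ∧ 24 ≤ wW BsF4.Bs (wd d) 28 ∧
      24 ≤ wW BsF4.Bs (wd d) 30) := by decide +kernel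

theorem Lw0_pos : ∀ r < 24, 24 ≤ wW BsF4.Bs Lw0 r := by decide +kernel

section

variable {K : Type*} [Field K] [Fintype K] [CharP K 2] {m : ℕ}

/-- the representatives of the sixteen elements, in the twisted group -/
noncomputable def nd (K : Type*) [Field K] [CharP K 2] (m : ℕ) (d : DihedralGroup 8) : GF K m :=
  ⟨nW K (wd d), nW_wd_mem_twisted d⟩

omit [Fintype K] in
theorem nd_val (d : DihedralGroup 8) :
    ((nd K m d : GF K m) : GL chevF4.Idx K) = nW K (wd d) := rfl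

omit [Fintype K] in
theorem nd_conj_gxA (d : DihedralGroup 8) (t : K) :
    ((nd K m d * gxA t * (nd K m d)⁻¹ : GF K m) : GL chevF4.Idx K)
      = (hadd4 K).wordU [(wW BsF4.Bs (wd d) 33, ph1 K m t), (wW BsF4.Bs (wd d) 24, t)] := by
  have hc := conj_wordU2 (K := K) (wd d) (isWord_wd d) ((P1 K).rw m t)
    (fun p hp => (P1_bd t p hp).1)
  exact hc

omit [Fintype K] in
theorem nd_conj_gxB (d : DihedralGroup 8) (t u : K) :
    ((nd K m d * gxB t u * (nd K m d)⁻¹ : GF K m) : GL chevF4.Idx K)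
      = (hadd4 K).wordU [(wW BsF4.Bs (wd d) 27, ph1 K m t), (wW BsF4.Bs (wd d) 25, t),
        (wW BsF4.Bs (wd d) 28, ph1 K m t * t + u), (wW BsF4.Bs (wd d) 30, ph2 K m u)] := by
  have hc := conj_wordU2 (K := K) (wd d) (isWord_wd d) ((Q4 K).rw m t u)
    (fun p hp => (Q4_bd t u p hp).1)
  exact hc

omit [Fintype K] in
theorem gxA_mem_U1G (t : K) : (gxA t : GF K m) ∈ U1G K m := by
  rw [mem_U1G]
  exact wordU_mem_pos _ (P1_bd t)

theorem gxA_one_ne : (gxA 1 : GF K m) ≠ 1 := by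
  intro h
  have h0 : (gxA 0 : GF K m) = 1 := by
    apply Subtype.ext
    show (hadd4 K).wordU ((P1 K).rw m 0) = 1
    exact pair_rw_zero (P1 K)
  rw [← h0] at h
  exact one_ne_zero (gxA_inj 1 0 h)

theorem gxB_one_ne : (gxB 1 0 : GF K m) ≠ 1 := by
  intro h
  have h0 : (gxB 0 0 : GF K m) = 1 := by
    apply Subtype.ext
    show (hadd4 K).wordU ((Q4 K).rw m 0 0) = 1
    exact b2_rw_zero (Q4 K)
  rw [← h0] at h
  exact one_ne_zero (gxB_inj 1 0 0 0 h).1

/-- a representative of a non-trivial element maps some non-trivial element of `U¹` into `V¹` -/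
theorem exists_conj_neg (d : DihedralGroup 8) (hd : d ≠ 1) :
    ∃ u ∈ U1G K m, u ≠ 1 ∧ nd K m d * u * (nd K m d)⁻¹ ∈ V1G K m := by
  rcases desc_d d hd with ⟨h1, h2⟩ | ⟨h1, h2, h3, h4⟩
  · refine ⟨gxA 1, gxA_mem_U1G 1, gxA_one_ne, ?_⟩
    rw [mem_V1G, nd_conj_gxA]
    apply wordU_mem_neg
    intro p hp
    simp only [List.mem_cons, List.not_mem_nil, or_false] at hp
    rcases hp with rfl | rfl
    · exact h1
    · exact h2
  · refine ⟨gxB 1 0, gxB_mem_U1G 1 0, gxB_one_ne, ?_⟩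
    rw [mem_V1G, nd_conj_gxB]
    apply wordU_mem_neg
    intro p hp
    simp only [List.mem_cons, List.not_mem_nil, or_false] at hp
    rcases hp with rfl | rfl | rfl | rfl
    · exact h1
    · exact h2
    · exact h3
    · exact h4

/-- a representative of an element other than the longest one maps some non-trivial element of
`U¹` into `U¹` -/
theorem exists_conj_pos (d : DihedralGroup 8) (hd : d ≠ DihedralGroup.r 4) :
    ∃ u ∈ U1G K m, u ≠ 1 ∧ nd K m d * u * (nd K m d)⁻¹ ∈ U1G K m := by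
  have hlt : ∀ r < 48, wW BsF4.Bs (wd d) r < 48 := fun r hr =>
    wW_lt DataF4.agrees BsF4.Bs HsF4.reflBs' (wd d) (isWord_wd d) r hr
  rcases asc_d d hd with ⟨h1, h2⟩ | ⟨h1, h2, h3, h4⟩
  · refine ⟨gxA 1, gxA_mem_U1G 1, gxA_one_ne, ?_⟩
    rw [mem_U1G, nd_conj_gxA]
    apply wordU_mem_pos
    intro p hp
    simp only [List.mem_cons, List.not_mem_nil, or_false] at hp
    rcases hp with rfl | rfl
    · exact ⟨hlt 33 (by norm_num), h1⟩
    · exact ⟨hlt 24 (by norm_num), h2⟩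
  · refine ⟨gxB 1 0, gxB_mem_U1G 1 0, gxB_one_ne, ?_⟩
    rw [mem_U1G, nd_conj_gxB]
    apply wordU_mem_pos
    intro p hp
    simp only [List.mem_cons, List.not_mem_nil, or_false] at hp
    rcases hp with rfl | rfl | rfl | rfl
    · exact ⟨hlt 27 (by norm_num), h1⟩
    · exact ⟨hlt 25 (by norm_num), h2⟩
    · exact ⟨hlt 28 (by norm_num), h3⟩
    · exact ⟨hlt 30 (by norm_num), h4⟩

/-! ### `B¹`, `U¹`, `V¹` -/

omit [Fintype K] [CharP K 2] in
theorem U1G_le_B1 : U1G K m ≤ B1 K m := by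
  intro x hx
  rw [mem_B1]
  exact Subgroup.mem_sup_left ((mem_U1G x).1 hx)

omit [Fintype K] [CharP K 2] in
theorem B1_inf_V1G : B1 K m ⊓ V1G K m = ⊥ := by
  rw [eq_bot_iff]
  intro x hx
  obtain ⟨h1, h2⟩ := Subgroup.mem_inf.1 hx
  rw [mem_B1] at h1
  rw [mem_V1G] at h2
  have h3 : (x : GL chevF4.Idx K) ∈ chevF4.borelSubgroup K ⊓ chevF4.negUnipotent K := ⟨h1, h2⟩
  rw [(borel_inf_neg_all chevF4 hD4).1, Subgroup.mem_bot] at h3
  rw [Subgroup.mem_bot]
  exact Subtype.ext h3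

omit [Fintype K] [CharP K 2] in
theorem B1_le_normalizer_U1G :
    B1 K m ≤ Subgroup.normalizer (U1G K m : Set (GF K m)) := by
  intro b hb
  rw [mem_B1] at hb
  have hn := Cfsg.Agent.Lib.Helper8.BT2.borel_le_normalizer_pos (K := K) hb
  rw [Subgroup.mem_normalizer_iff]
  intro x
  rw [mem_U1G, mem_U1G]
  exact Subgroup.mem_normalizer_iff.1 hn x

/-- the elements of `H¹`, as a subgroup of the twisted group -/
noncomputable def H1G (K : Type*) [Field K] (m : ℕ) : Subgroup (GF K m) :=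
  (chevF4.diagonalSubgroup K ⊓ twistedF4 K (2 ^ m)).subgroupOf (twistedF4 K (2 ^ m))

omit [Fintype K] [CharP K 2] in
theorem mem_H1G (x : GF K m) :
    x ∈ H1G K m ↔ (x : GL chevF4.Idx K) ∈ chevF4.diagonalSubgroup K := by
  show (x : GL chevF4.Idx K) ∈ chevF4.diagonalSubgroup K ⊓ twistedF4 K (2 ^ m) ↔ _
  exact ⟨fun h => h.1, fun h => ⟨h, x.2⟩⟩

omit [Fintype K] [CharP K 2] in
theorem H1G_le_B1 : H1G K m ≤ B1 K m := by
  intro x hx
  rw [mem_B1]
  exact Subgroup.mem_sup_right ((mem_H1G x).1 hx)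

omit [Fintype K] [CharP K 2] in
theorem H1G_le_normalizer_V1G :
    H1G K m ≤ Subgroup.normalizer (V1G K m : Set (GF K m)) := by
  intro h hh
  rw [mem_H1G] at hh
  have hn := diagonal_le_normalizer (F := K) hD4 (fun r => chevF4.IsNegRoot r)
    (fun r hr => hr.1) hh
  rw [Subgroup.mem_normalizer_iff]
  intro x
  rw [mem_V1G, mem_V1G]
  exact Subgroup.mem_normalizer_iff.1 hn x

/-! ### the normaliser of `U¹` -/

/-- the normaliser of `U¹` is contained in `B¹` (the field `norm` of `F4BN`) -/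
theorem norm_U1G (hK : Fintype.card K = 2 ^ (2 * m + 1)) (g : GF K m)
    (hg : ∀ u ∈ U1G K m, g * u * g⁻¹ ∈ U1G K m) : g ∈ B1 K m := by
  obtain ⟨b1, hb1, n, hn, b2, hb2, e⟩ := bruhat_twisted hK g
  have hnU : ∀ u ∈ U1G K m, n * u * n⁻¹ ∈ U1G K m := by
    intro u hu
    have h1 : b2⁻¹ * u * b2⁻¹⁻¹ ∈ U1G K m := B1_conj_U1G (inv_mem hb2) hu
    have h2 := hg _ h1
    have h3 := B1_conj_U1G (inv_mem hb1) h2
    have e' : n * u * n⁻¹ = b1⁻¹ * (g * (b2⁻¹ * u * b2⁻¹⁻¹) * g⁻¹) * b1⁻¹⁻¹ := by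
      rw [e]
      group
    rw [e']
    exact h3
  rw [mem_N1] at hn
  obtain ⟨d, h, hh, e2⟩ := mono_fix_coset hK n hn (twisted_le_fixR hK n.2)
  by_cases hd : d = 1
  · have hnB : n ∈ B1 K m := by
      rw [mem_B1, e2, hd, wd_one, nW_nil, one_mul]
      exact Cfsg.Agent.Lib.Helper8.BT2.diag_le_borel hh
    rw [e]
    exact mul_mem (mul_mem hb1 hnB) hb2
  · exfalso
    obtain ⟨u, hu, hne, hV⟩ := exists_conj_neg (K := K) (m := m) d hd
    set hG : GF K m := (nd K m d)⁻¹ * n with hhG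
    have hhG1 : hG ∈ H1G K m := by
      rw [mem_H1G]
      show (nW K (wd d))⁻¹ * (n : GL chevF4.Idx K) ∈ _
      rw [e2]
      have : (nW K (wd d))⁻¹ * (nW K (wd d) * h) = h := by group
      rw [this]
      exact hh
    have e3 : nd K m d * u * (nd K m d)⁻¹ = n * (hG⁻¹ * u * hG⁻¹⁻¹) * n⁻¹ := by
      rw [hhG]
      group
    have h4 : nd K m d * u * (nd K m d)⁻¹ ∈ U1G K m := by
      rw [e3]
      exact hnU _ (B1_conj_U1G (inv_mem (H1G_le_B1 hhG1)) hu)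
    have h5 : nd K m d * u * (nd K m d)⁻¹ ∈ B1 K m ⊓ V1G K m := ⟨U1G_le_B1 h4, hV⟩
    rw [B1_inf_V1G, Subgroup.mem_bot] at h5
    apply hne
    have : u = (nd K m d)⁻¹ * (nd K m d * u * (nd K m d)⁻¹) * nd K m d := by group
    rw [this, h5]
    group

/-! ### the longest element -/

omit [Fintype K] [CharP K 2] in
/-- the longest element maps `V` into `U` -/
theorem n0_conj_neg (u : GL chevF4.Idx K) (hu : u ∈ chevF4.negUnipotent K) :
    nW K Lw0 * u * (nW K Lw0)⁻¹ ∈ chevF4.posUnipotent K := by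
  have hle : chevF4.negUnipotent K
      ≤ (chevF4.posUnipotent K).comap (MulAut.conj (nW K Lw0)).toMonoidHom := by
    unfold ChevalleyDatum.negUnipotent
    rw [Subgroup.closure_le]
    rintro x ⟨r, t, hr, hx⟩
    have hx' : x = (hadd4 K).xU r t := Units.ext hx
    rw [SetLike.mem_coe, Subgroup.mem_comap, hx']
    show nW K Lw0 * (hadd4 K).xU r t * (nW K Lw0)⁻¹ ∈ _
    obtain ⟨t', e⟩ := conj_word_diag hD4 DataF4.agrees (hadd4 K) BsF4.Bs HsF4.reflBs' Lw0 Lw0_lt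
      1 (Subgroup.one_mem _) r hr.1 t
    rw [mul_one] at e
    have e' : nW K Lw0 * (hadd4 K).xU r t * (nW K Lw0)⁻¹
        = (hadd4 K).xU (wW BsF4.Bs Lw0 r) t' := e
    rw [e']
    have hlt := wW_lt DataF4.agrees BsF4.Bs HsF4.reflBs' Lw0 Lw0_lt r hr.1
    have h24 := Lw0_pos r ((neg_iff24 r hr.1).1 hr)
    exact Subgroup.subset_closure ⟨_, t', (pos_iff24 _ hlt).2 h24, rfl⟩
  exact hle hu

/-- the longest element, in the twisted group -/
noncomputable def n0G (K : Type*) [Field K] [CharP K 2] (m : ℕ) : GF K m :=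
  nd K m (DihedralGroup.r 4)

omit [Fintype K] in
theorem n0G_val : ((n0G K m : GF K m) : GL chevF4.Idx K) = nW K Lw0 := rfl

omit [Fintype K] in
theorem cj_n0G_U1G_le : cj (n0G K m) (U1G K m) ≤ V1G K m := by
  intro x hx
  rw [mem_cj, mem_U1G] at hx
  rw [mem_V1G]
  have h := n0_conj_pos _ hx
  have e : nW K Lw0 * (((n0G K m)⁻¹ * x * n0G K m : GF K m) : GL chevF4.Idx K)
      * (nW K Lw0)⁻¹ = x := by
    show nW K Lw0 * ((nW K Lw0)⁻¹ * (x : GL chevF4.Idx K) * nW K Lw0) * (nW K Lw0)⁻¹ = x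
    group
  rwa [e] at h

omit [Fintype K] in
theorem cj_n0G_V1G_le : cj (n0G K m) (V1G K m) ≤ U1G K m := by
  intro x hx
  rw [mem_cj, mem_V1G] at hx
  rw [mem_U1G]
  have h := n0_conj_neg _ hx
  have e : nW K Lw0 * (((n0G K m)⁻¹ * x * n0G K m : GF K m) : GL chevF4.Idx K)
      * (nW K Lw0)⁻¹ = x := by
    show nW K Lw0 * ((nW K Lw0)⁻¹ * (x : GL chevF4.Idx K) * nW K Lw0) * (nW K Lw0)⁻¹ = x
    group
  rwa [e] at h

theorem cj_n0G_U1G : cj (n0G K m) (U1G K m) = V1G K m := by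
  have h1 := Subgroup.card_le_of_le (cj_n0G_U1G_le (K := K) (m := m))
  have h2 := Subgroup.card_le_of_le (cj_n0G_V1G_le (K := K) (m := m))
  rw [card_cj] at h1 h2
  apply Subgroup.eq_of_le_of_card_ge cj_n0G_U1G_le
  rw [card_cj]
  exact h2

theorem cj_n0G_V1G : cj (n0G K m) (V1G K m) = U1G K m := by
  have h1 := Subgroup.card_le_of_le (cj_n0G_U1G_le (K := K) (m := m))
  have h2 := Subgroup.card_le_of_le (cj_n0G_V1G_le (K := K) (m := m))
  rw [card_cj] at h1 h2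
  apply Subgroup.eq_of_le_of_card_ge cj_n0G_V1G_le
  rw [card_cj]
  exact h1

/-! ### the torus -/

/-- `B¹ = U¹ H¹` -/
theorem B1_eq_mul (hK : Fintype.card K = 2 ^ (2 * m + 1)) (b : GF K m) (hb : b ∈ B1 K m) :
    ∃ u ∈ U1G K m, ∃ h ∈ H1G K m, b = u * h := by
  rw [mem_B1] at hb
  obtain ⟨u, hu, h, hh, e, fu, fh⟩ := borel_fixR hK _ hb (twisted_le_fixR hK b.2)
  have hG : ∀ y, y ∈ fixR hK → y ∈ twistedF4 K (2 ^ m) := fun y hy => by
    rw [twisted_eq_fixR hK]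
    exact hy
  refine ⟨⟨u, hG u fu⟩, ?_, ⟨h, hG h fh⟩, ?_, ?_⟩
  · rw [mem_U1G]
    exact hu
  · rw [mem_H1G]
    exact hh
  · exact Subtype.ext e

/-- the elements normalising `U¹` and `V¹` lie in `H` (the field `torus` of `F4BN`) -/
theorem torus_U1G (hK : Fintype.card K = 2 ^ (2 * m + 1)) (g : GF K m)
    (hgU : ∀ u ∈ U1G K m, g * u * g⁻¹ ∈ U1G K m)
    (hgV : ∀ v ∈ V1G K m, g * v * g⁻¹ ∈ V1G K m) :
    (g : GL chevF4.Idx K) ∈ chevF4.diagonalSubgroup K := by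
  obtain ⟨u, hu, h, hh, e⟩ := B1_eq_mul hK g (norm_U1G hK g hgU)
  have huV : ∀ v ∈ V1G K m, u * v * u⁻¹ ∈ V1G K m := by
    intro v hv
    have h1 : h⁻¹ * v * h⁻¹⁻¹ ∈ V1G K m :=
      (Subgroup.mem_normalizer_iff.1 (Subgroup.inv_mem _ (H1G_le_normalizer_V1G hh)) v).1 hv
    have h2 := hgV _ h1
    have e' : u * v * u⁻¹ = g * (h⁻¹ * v * h⁻¹⁻¹) * g⁻¹ := by
      rw [e]
      group
    rw [e']
    exact h2
  have h3 : ∀ x ∈ U1G K m,
      (n0G K m * u * (n0G K m)⁻¹) * x * (n0G K m * u * (n0G K m)⁻¹)⁻¹ ∈ U1G K m := by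
    intro x hx
    have hx' : (n0G K m)⁻¹ * x * n0G K m ∈ V1G K m := by
      rw [← cj_n0G_V1G (K := K) (m := m)] at hx
      exact mem_cj.1 hx
    have h4 := huV _ hx'
    have h5 : n0G K m * (u * ((n0G K m)⁻¹ * x * n0G K m) * u⁻¹) * (n0G K m)⁻¹
        ∈ cj (n0G K m) (V1G K m) := by
      rw [mem_cj]
      have : (n0G K m)⁻¹ * (n0G K m * (u * ((n0G K m)⁻¹ * x * n0G K m) * u⁻¹) * (n0G K m)⁻¹)
          * n0G K m = u * ((n0G K m)⁻¹ * x * n0G K m) * u⁻¹ := by group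
      rw [this]
      exact h4
    rw [cj_n0G_V1G] at h5
    have e' : (n0G K m * u * (n0G K m)⁻¹) * x * (n0G K m * u * (n0G K m)⁻¹)⁻¹
        = n0G K m * (u * ((n0G K m)⁻¹ * x * n0G K m) * u⁻¹) * (n0G K m)⁻¹ := by group
    rw [e']
    exact h5
  have h6 := norm_U1G hK _ h3
  rw [mem_B1] at h6
  rw [mem_U1G] at hu
  have h7 : (u : GL chevF4.Idx K) = 1 :=
    Cfsg.Agent.Lib.Helper8.BT2.eq_one_of_n0_conj _ hu h6
  have h8 : u = 1 := Subtype.ext h7
  rw [e, h8, one_mul]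
  exact (mem_H1G h).1 hh

/-! ### opposite conjugates -/

/-- a conjugate of `U¹` meeting `B¹` trivially is a conjugate of `V¹` under `B¹` -/
theorem exists_B1_cj (hK : Fintype.card K = 2 ^ (2 * m + 1)) (g : GF K m)
    (hinf : cj g (U1G K m) ⊓ B1 K m = ⊥) :
    ∃ b ∈ B1 K m, cj g (U1G K m) = cj b (V1G K m) := by
  obtain ⟨b1, hb1, n, hn, b2, hb2, e⟩ := bruhat_twisted hK g
  rw [mem_N1] at hn
  obtain ⟨d, h, hh, e2⟩ := mono_fix_coset hK n hn (twisted_le_fixR hK n.2)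
  set hG : GF K m := (nd K m d)⁻¹ * n with hhG
  have hhG1 : hG ∈ H1G K m := by
    rw [mem_H1G]
    show (nW K (wd d))⁻¹ * (n : GL chevF4.Idx K) ∈ _
    rw [e2]
    have : (nW K (wd d))⁻¹ * (nW K (wd d) * h) = h := by group
    rw [this]
    exact hh
  have e3 : g = b1 * nd K m d * (hG * b2) := by
    rw [e, hhG]
    group
  have e4 : cj g (U1G K m) = cj b1 (cj (nd K m d) (U1G K m)) := by
    rw [e3, ← cj_mul, ← cj_mul,
      cj_of_mem_normalizer (B1_le_normalizer_U1G (mul_mem (H1G_le_B1 hhG1) hb2))]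
  have hd : d = DihedralGroup.r 4 := by
    by_contra hd
    obtain ⟨u, hu, hne, hU⟩ := exists_conj_pos (K := K) (m := m) d hd
    have h1 : b1 * (nd K m d * u * (nd K m d)⁻¹) * b1⁻¹ ∈ cj g (U1G K m) ⊓ B1 K m := by
      constructor
      · rw [e4]
        show _ ∈ cj b1 (cj (nd K m d) (U1G K m))
        rw [mem_cj, mem_cj]
        have : (nd K m d)⁻¹ * (b1⁻¹ * (b1 * (nd K m d * u * (nd K m d)⁻¹) * b1⁻¹) * b1) * nd K m d
            = u := by group
        rw [this]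
        exact hu
      · exact (B1 K m).mul_mem ((B1 K m).mul_mem hb1 (U1G_le_B1 hU)) ((B1 K m).inv_mem hb1)
    rw [hinf, Subgroup.mem_bot] at h1
    apply hne
    have : u = (nd K m d)⁻¹ * (b1⁻¹ * (b1 * (nd K m d * u * (nd K m d)⁻¹) * b1⁻¹) * b1)
        * nd K m d := by group
    rw [this, h1]
    group
  refine ⟨b1, hb1, ?_⟩
  rw [e4, hd]
  show cj b1 (cj (n0G K m) (U1G K m)) = _
  rw [cj_n0G_U1G]

end

end Cfsg.Agent.Lib.Helper5.F4W
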