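import Cfsg.Agent.Lib.Helper5.F4W.OutA
import Cfsg.Agent.Lib.Lead.F4Out.F4CellsA
import Cfsg.Agent.Lib.Helper5.AutBN.Perm
import Cfsg.Agent.Lib.Helper5.Ree.AutC
import Mathlib

/-!
# The large Ree groups: the normal form of an automorphism (helper5)

After an inner automorphism, an automorphism of the large Ree group fixes `U¹`, `V¹`, the two
minimal parabolic subgroups and their opposites.
-/

set_option autoImplicit false
set_option maxRecDepth 100000

namespace Cfsg.Agent.Lib.Helper5.F4W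

open Cfsg Cfsg.Lie Cfsg.Agent.Lib.Helper5.Chev Cfsg.Agent.Lib.Helper5.GA Cfsg.Agent.Lib.Helper5.Tw
open Cfsg.Agent.Lib.Helper8.F4T Cfsg.Agent.Lib.Helper5.AutBN Cfsg.Agent.F4Out
open Cfsg.Agent.Lib.Helper8.BT2 (U1G mem_U1G bnF4 bnF4_B bnF4_S Qa Qb card_Qa card_Qb card_U1G)
open Cfsg.Agent.Lib.Helper5.Ree (mem_normalizer_of_cj_eq)

section

variable {K : Type*} [Field K] [Fintype K] [CharP K 2] {m : ℕ}

theorem normalizer_U1G (hK : Fintype.card K = 2 ^ (2 * m + 1)) :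
    Subgroup.normalizer (U1G K m : Set (GF K m)) = B1 K m := by
  apply le_antisymm
  · intro g hg
    exact norm_U1G hK g (fun u hu => (Subgroup.mem_normalizer_iff.1 hg u).1 hu)
  · exact B1_le_normalizer_U1G

theorem isPGroup_U1G (hK : Fintype.card K = 2 ^ (2 * m + 1)) : IsPGroup 2 (U1G K m) :=
  IsPGroup.of_card (card_U1G hK)

theorem index_U1G (hK : Fintype.card K = 2 ^ (2 * m + 1)) : ¬ 2 ∣ (U1G K m).index := by
  have hq : (2 ^ (2 * m + 1)) ^ 12 = 2 ^ ((2 * m + 1) * 12) := by rw [← pow_mul]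
  have h1 : 2 ^ ((2 * m + 1) * 12) * (U1G K m).index
      = 2 ^ ((2 * m + 1) * 12) * ((2 ^ (2 * m + 1) - 1) * ((2 ^ (2 * m + 1)) ^ 3 + 1) *
        ((2 ^ (2 * m + 1)) ^ 4 - 1) * ((2 ^ (2 * m + 1)) ^ 6 + 1)) := by
    have h := Subgroup.card_mul_index (U1G K m)
    rw [card_U1G hK, card_twisted hK, hq] at h
    rw [h]
    ring
  have h2 : (U1G K m).index = (2 ^ (2 * m + 1) - 1) * ((2 ^ (2 * m + 1)) ^ 3 + 1) *
        ((2 ^ (2 * m + 1)) ^ 4 - 1) * ((2 ^ (2 * m + 1)) ^ 6 + 1) :=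
    Nat.eq_of_mul_eq_mul_left (pow_pos (by norm_num) _) h1
  rw [h2]
  intro hdvd
  have hQ : 2 ∣ 2 ^ (2 * m + 1) := dvd_pow_self 2 (by omega)
  have hQ1 : 1 ≤ 2 ^ (2 * m + 1) := Nat.one_le_pow _ _ (by norm_num)
  have hQ3 : 2 ∣ (2 ^ (2 * m + 1)) ^ 3 := dvd_pow hQ (by norm_num)
  have hQ4 : 2 ∣ (2 ^ (2 * m + 1)) ^ 4 := dvd_pow hQ (by norm_num)
  have hQ41 : 1 ≤ (2 ^ (2 * m + 1)) ^ 4 := Nat.one_le_pow _ _ hQ1
  have hQ6 : 2 ∣ (2 ^ (2 * m + 1)) ^ 6 := dvd_pow hQ (by norm_num)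
  rcases (Nat.Prime.dvd_mul Nat.prime_two).1 hdvd with h | h
  · rcases (Nat.Prime.dvd_mul Nat.prime_two).1 h with h | h
    · rcases (Nat.Prime.dvd_mul Nat.prime_two).1 h with h | h
      · omega
      · omega
    · omega
  · omega

/-! ### the longest element exchanges the families -/

theorem n0G_conj_gyA (t : K) : n0G K m * gyA t * (n0G K m)⁻¹ = gxA t := by
  apply Subtype.ext
  show nW K Lw0 * (hadd4 K).wordU ((P1n K).rw m t) * (nW K Lw0)⁻¹
    = (hadd4 K).wordU ((P1 K).rw m t)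
  unfold nW
  rw [conj_wordU2 Lw0 Lw0_lt _ (P1n_rw_lt t)]
  have e14 : wW BsF4.Bs Lw0 14 = 33 := by decide +kernel
  have e23 : wW BsF4.Bs Lw0 23 = 24 := by decide +kernel
  show (hadd4 K).wordU [(wW BsF4.Bs Lw0 14, ph1 K m t), (wW BsF4.Bs Lw0 23, t)] = _
  rw [e14, e23]
  rfl

omit [Fintype K] in
theorem Q4n_rw_lt (t u : K) : ∀ p ∈ (Q4n K).rw m t u, p.1 < chevF4.nroots := by
  intro p hp
  have : p = (20, ph1 K m t) ∨ p = (22, t) ∨ p = (19, ph1 K m t * t + u) ∨ p = (17, ph2 K m u) := by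
    simpa [B2Side.rw, B2Side.w4, Q4n, mkB2] using hp
  rcases this with rfl | rfl | rfl | rfl
  · show (20 : ℕ) < chevF4.nroots
    decide
  · show (22 : ℕ) < chevF4.nroots
    decide
  · show (19 : ℕ) < chevF4.nroots
    decide
  · show (17 : ℕ) < chevF4.nroots
    decide

theorem n0G_conj_gyB (t u : K) : n0G K m * gyB t u * (n0G K m)⁻¹ = gxB t u := by
  apply Subtype.ext
  show nW K Lw0 * (hadd4 K).wordU ((Q4n K).rw m t u) * (nW K Lw0)⁻¹
    = (hadd4 K).wordU ((Q4 K).rw m t u)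
  unfold nW
  rw [conj_wordU2 Lw0 Lw0_lt _ (Q4n_rw_lt t u)]
  have e20 : wW BsF4.Bs Lw0 20 = 27 := by decide +kernel
  have e22 : wW BsF4.Bs Lw0 22 = 25 := by decide +kernel
  have e19 : wW BsF4.Bs Lw0 19 = 28 := by decide +kernel
  have e17 : wW BsF4.Bs Lw0 17 = 30 := by decide +kernel
  show (hadd4 K).wordU [(wW BsF4.Bs Lw0 20, ph1 K m t), (wW BsF4.Bs Lw0 22, t),
    (wW BsF4.Bs Lw0 19, ph1 K m t * t + u), (wW BsF4.Bs Lw0 17, ph2 K m u)] = _
  rw [e20, e22, e19, e17]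
  rfl

/-! ### the two minimal parabolic subgroups are characteristic over `B¹` -/

/-- the two reflections -/
noncomputable def sF (K : Type*) [Field K] [CharP K 2] (m : ℕ) : Bool → GF K m :=
  fun b => if b then sA K m else sB K m

theorem range_sF (hK : Fintype.card K = 2 ^ (2 * m + 1)) :
    Set.range (sF K m) = (bnF4 hK).S := by
  rw [bnF4_S]
  ext x
  constructor
  · rintro ⟨b, rfl⟩
    cases b
    · exact Set.mem_insert_of_mem _ rfl
    · exact Set.mem_insert _ _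
  · intro hx
    rcases hx with rfl | hx
    · exact ⟨true, rfl⟩
    · rw [Set.mem_singleton_iff] at hx
      rw [hx]
      exact ⟨false, rfl⟩

theorem card_Qa_ne (hK : Fintype.card K = 2 ^ (2 * m + 1)) :
    Nat.card (Qa hK) ≠ Nat.card (Qb hK) := by
  rw [card_Qa, card_Qb]
  have hQ2 : 2 ≤ 2 ^ (2 * m + 1) := by
    calc 2 = 2 ^ 1 := by norm_num
      _ ≤ 2 ^ (2 * m + 1) := Nat.pow_le_pow_right (by norm_num) (by omega)
  generalize 2 ^ (2 * m + 1) = Q at hQ2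
  intro h
  have hpos : 0 < Q ^ 12 * (Q - 1) ^ 2 := by
    apply Nat.mul_pos (pow_pos (by omega) _) (pow_pos (by omega) _)
  have h1 := Nat.eq_of_mul_eq_mul_left hpos h
  have h2 : Q < Q ^ 2 := by nlinarith
  omega

theorem card_map_equiv {G : Type*} [Group G] (φ : G ≃* G) (H : Subgroup G) :
    Nat.card (H.map φ.toMonoidHom) = Nat.card H :=
  (Nat.card_congr (H.equivMapOfInjective _ φ.injective).toEquiv).symm

/-- an automorphism fixing `B¹` fixes the two minimal parabolic subgroups -/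
theorem map_Qa_Qb (hK : Fintype.card K = 2 ^ (2 * m + 1)) (φ : GF K m ≃* GF K m)
    (hφ : (B1 K m).map φ.toMonoidHom = B1 K m) :
    (Qa hK).map φ.toMonoidHom = Qa hK ∧ (Qb hK).map φ.toMonoidHom = Qb hK := by
  have hφ' : (bnF4 hK).B.map φ.toMonoidHom = (bnF4 hK).B := by
    rw [bnF4_B]
    exact hφ
  constructor
  · obtain ⟨j, hj⟩ := exists_map_single (P := bnF4 hK) (sF K m) (range_sF hK) φ hφ' true
    cases j
    · exfalso
      apply card_Qa_ne hK
      have h1 : Nat.card ((Qa hK).map φ.toMonoidHom) = Nat.card (Qb hK) := by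
        have : (Qa hK).map φ.toMonoidHom = Qb hK := hj
        rw [this]
      rw [← h1, card_map_equiv]
    · exact hj
  · obtain ⟨j, hj⟩ := exists_map_single (P := bnF4 hK) (sF K m) (range_sF hK) φ hφ' false
    cases j
    · exact hj
    · exfalso
      apply card_Qa_ne hK
      have h1 : Nat.card ((Qb hK).map φ.toMonoidHom) = Nat.card (Qa hK) := by
        have : (Qb hK).map φ.toMonoidHom = Qa hK := hj
        rw [this]
      rw [← h1, card_map_equiv]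

/-! ### the normal form -/

/-- after an inner automorphism, an automorphism fixes `U¹`, `V¹`, the intersections of the
minimal parabolic subgroups with `V¹` and their conjugates under the longest element -/
theorem exists_normal_form_f4 (hK : Fintype.card K = 2 ^ (2 * m + 1))
    (θ : GF K m ≃* GF K m) :
    ∃ x : GF K m,
      (U1G K m).map (θ.trans (MulAut.conj x⁻¹)).toMonoidHom = U1G K m ∧
      (V1G K m).map (θ.trans (MulAut.conj x⁻¹)).toMonoidHom = V1G K m ∧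
      (Qa hK ⊓ V1G K m).map (θ.trans (MulAut.conj x⁻¹)).toMonoidHom = Qa hK ⊓ V1G K m ∧
      (Qb hK ⊓ V1G K m).map (θ.trans (MulAut.conj x⁻¹)).toMonoidHom = Qb hK ⊓ V1G K m ∧
      (cj (n0G K m) (Qa hK ⊓ V1G K m)).map (θ.trans (MulAut.conj x⁻¹)).toMonoidHom
        = cj (n0G K m) (Qa hK ⊓ V1G K m) ∧
      (cj (n0G K m) (Qb hK ⊓ V1G K m)).map (θ.trans (MulAut.conj x⁻¹)).toMonoidHom
        = cj (n0G K m) (Qb hK ⊓ V1G K m) := by
  classical
  have : Finite (GF K m) := inferInstance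
  have : Fact (Nat.Prime 2) := ⟨Nat.prime_two⟩
  -- step 1: `U¹` is fixed
  obtain ⟨x1, hx1⟩ := exists_map_eq_cj 2 (U1G K m) (isPGroup_U1G hK) (index_U1G hK) θ
  set θ1 : GF K m ≃* GF K m := θ.trans (MulAut.conj x1⁻¹) with hθ1
  have h1U : (U1G K m).map θ1.toMonoidHom = U1G K m := by
    rw [hθ1, map_trans_conj, hx1, cj_inv_cj]
  have hfixB : ∀ φ : GF K m ≃* GF K m, (U1G K m).map φ.toMonoidHom = U1G K m →
      (B1 K m).map φ.toMonoidHom = B1 K m := by
    intro φ hφ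
    have := Subgroup.map_equiv_normalizer_eq (U1G K m) φ
    rw [hφ, normalizer_U1G hK] at this
    exact this
  have h1B : (B1 K m).map θ1.toMonoidHom = B1 K m := hfixB θ1 h1U
  -- step 2: `V¹` is fixed
  have h1V : (V1G K m).map θ1.toMonoidHom = cj (θ1 (n0G K m)) (U1G K m) := by
    rw [← cj_n0G_U1G, map_cj, h1U]
  have h1inf : cj (θ1 (n0G K m)) (U1G K m) ⊓ B1 K m = ⊥ := by
    rw [← h1V]
    conv_lhs => rw [← h1B]
    rw [← Subgroup.map_inf _ _ _ θ1.injective, inf_comm, B1_inf_V1G, Subgroup.map_bot]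
  obtain ⟨b, hb, hbV⟩ := exists_B1_cj hK _ h1inf
  set θ2 : GF K m ≃* GF K m := θ1.trans (MulAut.conj b⁻¹) with hθ2
  have h2V : (V1G K m).map θ2.toMonoidHom = V1G K m := by
    rw [hθ2, map_trans_conj, h1V, hbV, cj_inv_cj]
  have h2U : (U1G K m).map θ2.toMonoidHom = U1G K m := by
    rw [hθ2, map_trans_conj, h1U]
    apply cj_of_mem_normalizer
    rw [normalizer_U1G hK]
    exact Subgroup.inv_mem _ hb
  have h2B : (B1 K m).map θ2.toMonoidHom = B1 K m := hfixB θ2 h2U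
  have hθ2' : θ2 = θ.trans (MulAut.conj (x1 * b)⁻¹) := by
    apply MulEquiv.ext
    intro y
    simp only [hθ2, hθ1, MulEquiv.trans_apply, MulAut.conj_apply, mul_inv_rev, inv_inv]
    group
  refine ⟨x1 * b, ?_⟩
  rw [← hθ2']
  -- step 3: the parabolic subgroups
  obtain ⟨h2Qa, h2Qb⟩ := map_Qa_Qb hK θ2 h2B
  -- the opposite side
  set θ3 : GF K m ≃* GF K m :=
    (MulAut.conj (n0G K m) : GF K m ≃* GF K m).trans (θ2.trans (MulAut.conj (n0G K m)⁻¹)) with hθ3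
  have h3 : ∀ H : Subgroup (GF K m),
      H.map θ3.toMonoidHom = cj (n0G K m)⁻¹ ((cj (n0G K m) H).map θ2.toMonoidHom) := by
    intro H
    rw [hθ3, map_conj_trans, map_trans_conj]
  have hBm : cj (n0G K m) (B1 K m) = Subgroup.normalizer (V1G K m : Set (GF K m)) := by
    rw [← normalizer_U1G hK, ← normalizer_cj, cj_n0G_U1G]
  have h2Bm : (cj (n0G K m) (B1 K m)).map θ2.toMonoidHom = cj (n0G K m) (B1 K m) := by
    rw [hBm]
    have := Subgroup.map_equiv_normalizer_eq (V1G K m) θ2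
    rw [h2V] at this
    exact this
  have h3B : (B1 K m).map θ3.toMonoidHom = B1 K m := by
    rw [h3, h2Bm, cj_inv_cj]
  obtain ⟨h3Qa, h3Qb⟩ := map_Qa_Qb hK θ3 h3B
  have h2Qa' : (cj (n0G K m) (Qa hK)).map θ2.toMonoidHom = cj (n0G K m) (Qa hK) := by
    have := h3Qa
    rw [h3] at this
    conv_rhs => rw [← this]
    rw [cj_cj_inv]
  have h2Qb' : (cj (n0G K m) (Qb hK)).map θ2.toMonoidHom = cj (n0G K m) (Qb hK) := by
    have := h3Qb
    rw [h3] at this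
    conv_rhs => rw [← this]
    rw [cj_cj_inv]
  refine ⟨h2U, h2V, ?_, ?_, ?_, ?_⟩
  · rw [Subgroup.map_inf _ _ _ θ2.injective, h2Qa, h2V]
  · rw [Subgroup.map_inf _ _ _ θ2.injective, h2Qb, h2V]
  · rw [cj_inf, cj_n0G_V1G, Subgroup.map_inf _ _ _ θ2.injective, h2Qa', h2U]
  · rw [cj_inf, cj_n0G_V1G, Subgroup.map_inf _ _ _ θ2.injective, h2Qb', h2U]

/-- the field `nf` of `F4BN`: the normal form of an automorphism of the large Ree group -/
theorem nf_F4 (hK : Fintype.card K = 2 ^ (2 * m + 1)) (hm : 1 ≤ m) (θ : GF K m ≃* GF K m) :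
    ∃ x : GF K m,
      (∀ g ∈ U1G K m, x⁻¹ * θ g * x ∈ U1G K m) ∧
      (∀ t, ∃ t', x⁻¹ * θ (gxA t) * x = gxA t') ∧ (∀ t, ∃ t', x⁻¹ * θ (gyA t) * x = gyA t') ∧
      (∀ t u, ∃ t' u', x⁻¹ * θ (gxB t u) * x = gxB t' u') ∧
      (∀ t u, ∃ t' u', x⁻¹ * θ (gyB t u) * x = gyB t' u') := by
  obtain ⟨x, hU, hV, hYa, hYb, hXa, hXb⟩ := exists_normal_form_f4 hK θ
  set φ : GF K m ≃* GF K m := θ.trans (MulAut.conj x⁻¹) with hφ
  have hφa : ∀ g, φ g = x⁻¹ * θ g * x := fun g => by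
    rw [hφ, MulEquiv.trans_apply, MulAut.conj_apply, inv_inv]
  have key : ∀ (H : Subgroup (GF K m)), H.map φ.toMonoidHom = H → ∀ g ∈ H, φ g ∈ H := by
    intro H hH g hg
    have : φ g ∈ H.map φ.toMonoidHom := Subgroup.mem_map_of_mem _ hg
    rwa [hH] at this
  have hyA : ∀ t, ∃ t', φ (gyA t) = gyA t' := by
    intro t
    have h := key _ hYa (gyA t) ⟨Cfsg.Agent.F4Out.gyA_mem_Qa hK t, Cfsg.Agent.F4Out.gyA_mem_V1G t⟩
    exact Cfsg.Agent.F4Out.Qa_inf_V hK _ h.1 h.2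
  have hyB : ∀ t u, ∃ t' u', φ (gyB t u) = gyB t' u' := by
    intro t u
    have h := key _ hYb (gyB t u) ⟨gyB_mem_Qb hK t u, Cfsg.Agent.F4Out.gyB_mem_V1G t u⟩
    exact Cfsg.Agent.F4Out.Qb_inf_V hK hm _ h.1 h.2
  have hxA : ∀ t, ∃ t', φ (gxA t) = gxA t' := by
    intro t
    have h0 : (gxA t : GF K m) ∈ cj (n0G K m) (Qa hK ⊓ V1G K m) := by
      rw [mem_cj, ← n0G_conj_gyA]
      have : (n0G K m)⁻¹ * (n0G K m * gyA t * (n0G K m)⁻¹) * n0G K m = gyA t := by group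
      rw [this]
      exact ⟨Cfsg.Agent.F4Out.gyA_mem_Qa hK t, Cfsg.Agent.F4Out.gyA_mem_V1G t⟩
    have h := key _ hXa _ h0
    rw [mem_cj] at h
    obtain ⟨t', e⟩ := Cfsg.Agent.F4Out.Qa_inf_V hK _ h.1 h.2
    refine ⟨t', ?_⟩
    rw [← n0G_conj_gyA t', ← e]
    group
  have hxB : ∀ t u, ∃ t' u', φ (gxB t u) = gxB t' u' := by
    intro t u
    have h0 : (gxB t u : GF K m) ∈ cj (n0G K m) (Qb hK ⊓ V1G K m) := by
      rw [mem_cj, ← n0G_conj_gyB]
      have : (n0G K m)⁻¹ * (n0G K m * gyB t u * (n0G K m)⁻¹) * n0G K m = gyB t u := by group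
      rw [this]
      exact ⟨gyB_mem_Qb hK t u, Cfsg.Agent.F4Out.gyB_mem_V1G t u⟩
    have h := key _ hXb _ h0
    rw [mem_cj] at h
    obtain ⟨t', u', e⟩ := Cfsg.Agent.F4Out.Qb_inf_V hK hm _ h.1 h.2
    refine ⟨t', u', ?_⟩
    rw [← n0G_conj_gyB t' u', ← e]
    group
  refine ⟨x, ?_, ?_, ?_, ?_, ?_⟩
  · intro g hg
    rw [← hφa]
    exact key _ hU g hg
  · intro t
    obtain ⟨t', e⟩ := hxA t
    exact ⟨t', by rw [← hφa]; exact e⟩
  · intro t
    obtain ⟨t', e⟩ := hyA t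
    exact ⟨t', by rw [← hφa]; exact e⟩
  · intro t u
    obtain ⟨t', u', e⟩ := hxB t u
    exact ⟨t', u', by rw [← hφa]; exact e⟩
  · intro t u
    obtain ⟨t', u', e⟩ := hyB t u
    exact ⟨t', u', by rw [← hφa]; exact e⟩

end

end Cfsg.Agent.Lib.Helper5.F4W
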