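import Cfsg.Agent.Lib.Helper5.Tw.WeylFix
import Mathlib

/-!
# Elements of a Weyl group fixed by a graph automorphism, with orbits which are not orthogonal
(helper5)

A version of `Tw.fixw_gen` in which an orbit of fundamental roots may consist of two roots which
are not orthogonal; the word of the orbit is then the longest word `a b a b …` of the dihedral
group generated by the two reflections.
-/

set_option autoImplicit false

namespace Cfsg.Agent.Lib.Helper5.F4W

open Cfsg.Lie Cfsg.Agent.Lib.Helper5.Chev Cfsg.Agent.Lib.Helper5.Tw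

/-- the data of the orbits of the graph automorphism on the fundamental roots: an orbit is a set
of pairwise orthogonal roots, or a pair of roots with the longest word of its dihedral group -/
structure OrbOK2 (W : WD) (piL : List ℕ) (Ws : List (List ℕ)) : Prop where
  word : ∀ J ∈ Ws, ∀ i ∈ J, i < W.l
  cover : ∀ i < W.l, ∃ J ∈ Ws, i ∈ J
  shape : ∀ J ∈ Ws,
    (J.Nodup ∧ J.Pairwise fun i j => W.w i (W.p j) = W.p j ∧ W.w j (W.p i) = W.p i) ∨
    (∃ a < W.l, ∃ b < W.l, a ≠ b ∧ a ∈ J ∧ b ∈ J ∧ J = WD.alt a b (W.m a b))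
  stable : ∀ J ∈ Ws, ∀ i ∈ J, piL.getD i 0 ∈ J
  orbit : ∀ J ∈ Ws, ∀ i ∈ J, ∀ j ∈ J, ∃ k < 4, (fun x => piL.getD x 0)^[k] i = j
  fix : ∀ J ∈ Ws, ∀ k < W.l, W.act (mapW piL J) (W.p k) = W.act J (W.p k)
  rev : ∀ J ∈ Ws, ∀ k < W.l, W.act J.reverse (W.p k) = W.act J (W.p k)

instance (W : WD) (piL : List ℕ) (Ws : List (List ℕ)) : Decidable (OrbOK2 W piL Ws) :=
  decidable_of_iff ((∀ J ∈ Ws, ∀ i ∈ J, i < W.l) ∧ (∀ i < W.l, ∃ J ∈ Ws, i ∈ J) ∧
    (∀ J ∈ Ws,
      (J.Nodup ∧ J.Pairwise fun i j => W.w i (W.p j) = W.p j ∧ W.w j (W.p i) = W.p i) ∨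
      (∃ a < W.l, ∃ b < W.l, a ≠ b ∧ a ∈ J ∧ b ∈ J ∧ J = WD.alt a b (W.m a b))) ∧
    (∀ J ∈ Ws, ∀ i ∈ J, piL.getD i 0 ∈ J) ∧
    (∀ J ∈ Ws, ∀ i ∈ J, ∀ j ∈ J, ∃ k < 4, (fun x => piL.getD x 0)^[k] i = j) ∧
    (∀ J ∈ Ws, ∀ k < W.l, W.act (mapW piL J) (W.p k) = W.act J (W.p k)) ∧
    (∀ J ∈ Ws, ∀ k < W.l, W.act J.reverse (W.p k) = W.act J (W.p k)))
    ⟨fun h => ⟨h.1, h.2.1, h.2.2.1, h.2.2.2.1, h.2.2.2.2.1, h.2.2.2.2.2.1, h.2.2.2.2.2.2⟩,
     fun h => ⟨h.word, h.cover, h.shape, h.stable, h.orbit, h.fix, h.rev⟩⟩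

section

variable {W : WD} {piL piiL sgL sgiL : List ℕ}

/-- appending the longest word of two descents lowers the number of inversions -/
theorem inv_append_alt (hV : W.Valid) (hR : W.RankTwo) {u : List ℕ} (hu : W.IsWord u) {a b : ℕ}
    (ha : a < W.l) (hb : b < W.l) (hab : a ≠ b) (hda : W.act u (W.p a) < W.h)
    (hdb : W.act u (W.p b) < W.h) :
    ∀ k ≤ W.m a b, W.inv (u ++ WD.alt a b k) + k = W.inv u := by
  intro k
  induction k with
  | zero =>
    intro _
    show W.inv (u ++ []) + 0 = W.inv u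
    rw [List.append_nil, add_zero]
  | succ k ih =>
    intro hk
    have h1 := ih (by omega)
    have hwk : W.IsWord (u ++ WD.alt a b k) := hu.append W (WD.alt_lt a b W.l ha hb k)
    have hc := WD.nxt_lt a b W.l ha hb k
    have hdk : W.act (u ++ WD.alt a b k) (W.p (WD.nxt a b k)) < W.h := by
      rw [WD.act_append]
      exact hR u hu a ha b hb hab hda hdb k (by omega)
    have h2 := hV.inv_desc_eq hwk hc hdk
    have e : u ++ WD.alt a b k ++ [WD.nxt a b k] = u ++ WD.alt a b (k + 1) := by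
      rw [WD.alt_succ, List.append_assoc]
    rw [e] at h2
    omega

/-- a fixed element with a descent in an orbit: all the orbit consists of descents -/
theorem desc_orbit2 (G : GraphW W piL piiL sgL sgiL) (hV : W.Valid) {Ws : List (List ℕ)}
    (O : OrbOK2 W piL Ws) {u : List ℕ} (hu : W.IsWord u)
    (hf : Fixw W piL u) {J : List ℕ} (hJ : J ∈ Ws) {i : ℕ} (hi : i ∈ J)
    (hd : W.act u (W.p i) < W.h) : ∀ j ∈ J, W.act u (W.p j) < W.h := by
  intro j hj
  obtain ⟨k, -, hk⟩ := O.orbit J hJ i hi j hj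
  have key : ∀ k : ℕ, (fun x => piL.getD x 0)^[k] i ∈ J ∧
      W.act u (W.p ((fun x => piL.getD x 0)^[k] i)) < W.h := by
    intro k
    induction k with
    | zero => exact ⟨hi, hd⟩
    | succ k ih =>
      rw [Function.iterate_succ_apply']
      exact ⟨O.stable J hJ _ ih.1, hf.desc G hV hu (O.word J hJ _ ih.1) ih.2⟩
  rw [← hk]
  exact (key k).2

/-- every fixed element is a product of the elements of the orbits -/
theorem fixw_gen2 (G : GraphW W piL piiL sgL sgiL) (hV : W.Valid) (hR : W.RankTwo)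
    (hm : ∀ i < W.l, ∀ j < W.l, i ≠ j → 1 ≤ W.m i j) {Ws : List (List ℕ)}
    (O : OrbOK2 W piL Ws) :
    ∀ (m : ℕ) (u : List ℕ), W.IsWord u → Fixw W piL u → W.inv u = m →
      ∃ Js : List (List ℕ), (∀ J ∈ Js, J ∈ Ws) ∧
        ∀ r < W.n, W.act u r = W.act Js.flatten r := by
  intro m
  induction m using Nat.strong_induction_on with
  | _ m ih =>
    intro u hu hf hinv
    by_cases hnd : ∀ i < W.l, W.h ≤ W.act u (W.p i)
    · refine ⟨[], fun J hJ => absurd hJ (by simp), ?_⟩
      intro r hr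
      rw [hV.act_eq_of_no_desc hR hm hu hnd r hr]
      rfl
    · push Not at hnd
      obtain ⟨i, hi, hd⟩ := hnd
      obtain ⟨J, hJ, hiJ⟩ := O.cover i hi
      have hJw : W.IsWord J := O.word J hJ
      have hall := desc_orbit2 G hV O hu hf hJ hiJ hd
      have hJpos : 0 < J.length := List.length_pos_of_mem hiJ
      have hlt : W.inv (u ++ J) < W.inv u := by
        rcases O.shape J hJ with ⟨hnd, horth⟩ | ⟨a, ha, b, hb, hab, haJ, hbJ, hJe⟩
        · have hlen := inv_append_desc hV hu J (O.word J hJ) hnd horth hall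
          omega
        · have hmab := hm a ha b hb hab
          have h1 := inv_append_alt hV hR hu ha hb hab (hall a haJ) (hall b hbJ) (W.m a b) le_rfl
          rw [← hJe] at h1
          omega
      have hfJ : Fixw W piL J := by
        intro r hr
        exact hV.act_eq_of_simple hR hm (mapW_isWord G hJw) hJw (O.fix J hJ) r hr
      obtain ⟨Js, hJs, hact⟩ := ih (W.inv (u ++ J)) (by omega) (u ++ J) (hu.append W hJw)
        (hf.append G hV hJw hfJ) rfl
      refine ⟨Js ++ [J], ?_, ?_⟩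
      · intro J' hJ'
        rw [List.mem_append, List.mem_singleton] at hJ'
        rcases hJ' with hJ' | rfl
        · exact hJs J' hJ'
        · exact hJ
      · intro r hr
        have hrev := hV.act_eq_of_simple hR hm hJw.reverse hJw (O.rev J hJ)
        rw [List.flatten_append, List.flatten_singleton, W.act_append, ← hact _ (hV.act_lt hJw hr),
          W.act_append, ← hrev _ (hV.act_lt hJw hr), hV.act_reverse hJw hr]

end

end Cfsg.Agent.Lib.Helper5.F4W
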